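import Mathlib

/-!
The solutions of the counting equation.
-/

set_option autoImplicit false

namespace Cfsg.Agent.Perm.LW

theorem choose_three_le : ∀ {k j : ℕ}, 3 ≤ j → 2 * j ≤ k → k.choose 3 ≤ k.choose j := by
  intro k j h3 hjk
  induction j, h3 using Nat.le_induction with
  | base => exact le_rfl
  | succ j hj ih => exact (ih (by omega)).trans (Nat.choose_le_succ_of_lt_half_left (by omega))

theorem classify_half {n k j : ℕ} (hk : 3 ≤ k) (hn : k + 1 ≤ n) (hj : 2 * j ≤ k)
    (heq : ((k : ℤ) - 2 * j) ^ 2 * ((n : ℤ) - ((k : ℤ) - 1)) = k * n)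
    (hC : k.choose j ≤ n - (k - 1)) : (k = 5 ∧ n = 9) ∨ (k = 7 ∧ n = 27) := by
  obtain ⟨M, hM⟩ : ∃ M : ℕ, n = M + (k - 1) := ⟨n - (k - 1), by omega⟩
  have hM2 : 2 ≤ M := by omega
  have hCM : k.choose j ≤ M := by omega
  have hMz : (n : ℤ) - ((k : ℤ) - 1) = M := by omega
  have hd : (((k : ℤ) - 2 * j) ^ 2 - k) * M = k * (k - 1) := by
    rw [hMz] at heq
    have hn' : (n : ℤ) = M + (k - 1) := by omega
    rw [hn'] at heq
    linear_combination heq
  have hd1 : (1 : ℤ) ≤ ((k : ℤ) - 2 * j) ^ 2 - k := by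
    by_contra hcon
    have h1 : (((k : ℤ) - 2 * j) ^ 2 - k) * M ≤ 0 :=
      mul_nonpos_of_nonpos_of_nonneg (by omega) (by positivity)
    have h2 : (0 : ℤ) < k * (k - 1) := mul_pos (by omega) (by omega)
    omega
  rcases Nat.lt_or_ge k 9 with hk9 | hk9
  · have hj4 : j ≤ 4 := by omega
    interval_cases k <;> interval_cases j <;> simp [Nat.choose] at hCM hd hd1 ⊢ <;> omega
  have hMle : (M : ℤ) ≤ k * (k - 1) := by nlinarith
  rcases Nat.lt_or_ge j 3 with hj3 | hj3
  · interval_cases j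
    · exfalso
      simp only [Nat.cast_zero, mul_zero, sub_zero] at hd
      have hM2' : (2 : ℤ) ≤ M := by exact_mod_cast hM2
      nlinarith
    · exfalso
      simp only [Nat.choose_one_right] at hCM
      have hCM' : (k : ℤ) ≤ M := by exact_mod_cast hCM
      simp only [Nat.cast_one, mul_one] at hd
      have hk' : (9 : ℤ) ≤ k := by exact_mod_cast hk9
      have hd5 : 5 * ((k : ℤ) - 1) ≤ ((k : ℤ) - 2) ^ 2 - k := by nlinarith
      nlinarith [mul_le_mul hd5 hCM' (by positivity) (by linarith)]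
    · exfalso
      have h2 : k * (k - 1) ≤ 2 * M := by
        have := Nat.choose_two_right k
        have h3 : k * (k - 1) % 2 = 0 := Nat.dvd_iff_mod_eq_zero.1 (Nat.even_mul_pred_self k).two_dvd
        omega
      have h2' : (k : ℤ) * (k - 1) ≤ 2 * M := by
        have : ((k * (k - 1) : ℕ) : ℤ) ≤ ((2 * M : ℕ) : ℤ) := by exact_mod_cast h2
        push_cast [Nat.cast_sub (show 1 ≤ k by omega)] at this
        exact this
      simp only [Nat.cast_ofNat] at hd
      have hk' : (9 : ℤ) ≤ k := by exact_mod_cast hk9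
      have hd3 : (3 : ℤ) ≤ ((k : ℤ) - 2 * 2) ^ 2 - k := by nlinarith
      nlinarith [mul_le_mul_of_nonneg_right hd3 (show (0 : ℤ) ≤ M by positivity)]
  · exfalso
    have h1 := (choose_three_le hj3 hj).trans hCM
    have h2 : k * (k - 1) * (k - 2) = 6 * k.choose 3 := by
      have := Nat.descFactorial_eq_factorial_mul_choose k 3
      simp only [Nat.descFactorial_succ, Nat.descFactorial_zero, Nat.factorial, mul_one, Nat.sub_zero] at this
      linarith [this]
    have h3 : ((k * (k - 1) * (k - 2) : ℕ) : ℤ) ≤ ((6 * M : ℕ) : ℤ) := by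
      exact_mod_cast (h2 ▸ Nat.mul_le_mul_left 6 h1)
    push_cast [Nat.cast_sub (show 1 ≤ k by omega), Nat.cast_sub (show 2 ≤ k by omega)] at h3
    have hk' : (9 : ℤ) ≤ k := by exact_mod_cast hk9
    nlinarith

theorem classify {n k j : ℕ} (hk : 3 ≤ k) (hn : k + 1 ≤ n) (hj : j ≤ k)
    (heq : ((k : ℤ) - 2 * j) ^ 2 * ((n : ℤ) - ((k : ℤ) - 1)) = k * n)
    (hC : k.choose j ≤ n - (k - 1)) : (k = 5 ∧ n = 9) ∨ (k = 7 ∧ n = 27) := by
  rcases Nat.lt_or_ge k (2 * j) with h | h
  · refine classify_half (j := k - j) hk hn (by omega) ?_ (by rw [Nat.choose_symm hj]; exact hC)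
    rw [Nat.cast_sub hj, ← heq]
    ring
  · exact classify_half hk hn h heq hC

end Cfsg.Agent.Perm.LW
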