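import Mathlib

/-!
Sylow's theorem for a prime `p` with only one cycle of length `p` in the degree.
-/

set_option autoImplicit false

namespace Cfsg.Agent.Perm.LW

open Equiv

variable {α : Type*} [Fintype α] [DecidableEq α]

theorem cycle_count (H : Subgroup (Equiv.Perm α)) {p : ℕ} [hp : Fact p.Prime]
    (hn : Fintype.card α < 2 * p) (hdvd : p ∣ Nat.card H) (h2 : ¬ p ^ 2 ∣ Nat.card H) :
    ∃ x ∈ H, orderOf x = p ∧ ∃ m d e : ℕ, Nat.card H = m * (p * (d * e)) ∧ m % p = 1 ∧ d ∣ p - 1 ∧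
      e ∣ (Fintype.card α - p).factorial ∧
      (∀ ℓ : ℕ, ℓ.Prime → ℓ ∣ e → ∃ z ∈ H, orderOf z = ℓ ∧ z.support ⊆ x.supportᶜ) ∧
      ∀ z ∈ H, z * x = x * z → (orderOf z).Coprime p → orderOf z ∣ e := by
  obtain ⟨x, hx⟩ := exists_prime_orderOf_dvd_card' p hdvd
  have hxo : orderOf (x : Equiv.Perm α) = p := (Subgroup.orderOf_coe x).trans hx
  refine ⟨x, x.2, hxo, ?_⟩
  have hcyc : (x : Equiv.Perm α).IsCycle :=
    Equiv.Perm.isCycle_of_prime_order' (hxo.symm ▸ hp.out) (hxo.symm ▸ hn)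
  have hsupp : (x : Equiv.Perm α).support.card = p := hcyc.orderOf.symm.trans hxo
  have hfac : (Nat.card H).factorization p = 1 := by
    have h0 : Nat.card H ≠ 0 := Nat.card_pos.ne'
    have a1 := (hp.out.pow_dvd_iff_le_factorization h0 (k := 1)).1 (by simpa using hdvd)
    have a2 : ¬ 2 ≤ (Nat.card H).factorization p := fun h => h2 ((hp.out.pow_dvd_iff_le_factorization h0).2 h)
    omega
  let P : Sylow p H := Sylow.ofCard (Subgroup.zpowers x) (by rw [Nat.card_zpowers, hx, hfac, pow_one])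
  have hPe : (P : Subgroup H) = Subgroup.zpowers x := Sylow.coe_ofCard _ _
  have hPc : Nat.card (P : Subgroup H) = p := by rw [hPe, Nat.card_zpowers, hx]
  set N := Subgroup.normalizer ((P : Subgroup H) : Set H) with hN
  have hH : Nat.card H = Nat.card (Sylow p H) * Nat.card N := by
    rw [Sylow.card_eq_index_normalizer P, mul_comm]
    exact (Subgroup.card_mul_index N).symm
  set θ := Subgroup.normalizerMonoidHom (P : Subgroup H) with hθ
  have hd : Nat.card θ.range ∣ p - 1 := by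
    haveI : IsCyclic (P : Subgroup H) := isCyclic_of_prime_card hPc
    have := Subgroup.card_subgroup_dvd_card θ.range
    rwa [IsCyclic.card_mulAut, hPc, Nat.totient_prime hp.out] at this
  have hker : ∀ z : θ.ker, ((z : N) : H) * x = x * ((z : N) : H) := by
    intro z
    have h1 : θ z ⟨x, hPe.ge (Subgroup.mem_zpowers x)⟩ = ⟨x, hPe.ge (Subgroup.mem_zpowers x)⟩ := by
      rw [MonoidHom.mem_ker.1 z.2]; rfl
    have h2 : ((z : N) : H) * x * ((z : N) : H)⁻¹ = x := congrArg Subtype.val h1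
    exact mul_inv_eq_iff_eq_mul.1 h2
  have hcomm : ∀ z : θ.ker, (((z : N) : H) : Equiv.Perm α) * x = x * (((z : N) : H) : Equiv.Perm α) :=
    fun z => congrArg Subtype.val (hker z)
  let z' : θ.ker → Equiv.Perm α := fun z => (((z : N) : H) : Equiv.Perm α)
  have hfix : ∀ z : θ.ker, ∀ a, a ∉ (x : Equiv.Perm α).support ↔ z' z a ∉ (x : Equiv.Perm α).support := by
    intro z a
    simp only [Equiv.Perm.notMem_support]
    have h1 := Equiv.congr_fun (hcomm z) a
    simp only [Equiv.Perm.mul_apply] at h1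
    show (x : Equiv.Perm α) a = a ↔ (x : Equiv.Perm α) (z' z a) = z' z a
    constructor
    · intro h; rw [← h1, h]
    · intro h; exact (z' z).injective (h1.trans h)
  let ψ : θ.ker →* Equiv.Perm {a // a ∉ (x : Equiv.Perm α).support} :=
    { toFun := fun z => (z' z).subtypePerm fun a => (hfix z a).symm
      map_one' := by ext a; rfl
      map_mul' := fun z w => by ext a; rfl }
  obtain ⟨a₀, ha₀⟩ : ∃ a, a ∈ (x : Equiv.Perm α).support := Finset.card_pos.1 (hsupp ▸ hp.out.pos)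
  have hpow : ∀ z : θ.ker, ψ z = 1 → ∃ i : ℤ, z' z = (x : Equiv.Perm α) ^ i := by
    intro z hz
    have hza : z' z a₀ ∈ (x : Equiv.Perm α).support := by
      by_contra h; exact ((hfix z a₀).2 h) ha₀
    obtain ⟨i, hi⟩ := hcyc.sameCycle (Equiv.Perm.mem_support.1 ha₀) (Equiv.Perm.mem_support.1 hza)
    refine ⟨i, Equiv.ext fun a => ?_⟩
    by_cases ha : a ∈ (x : Equiv.Perm α).support
    · obtain ⟨j, rfl⟩ := hcyc.sameCycle (Equiv.Perm.mem_support.1 ha₀) (Equiv.Perm.mem_support.1 ha)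
      have hc : Commute (z' z) ((x : Equiv.Perm α) ^ j) := (show Commute (z' z) (x : Equiv.Perm α) from hcomm z).zpow_right j
      have h1 : z' z (((x : Equiv.Perm α) ^ j) a₀) = ((x : Equiv.Perm α) ^ j) (z' z a₀) :=
        Equiv.congr_fun hc.eq a₀
      rw [h1, ← hi, ← Equiv.Perm.mul_apply, ← Equiv.Perm.mul_apply, ← zpow_add, ← zpow_add, add_comm]
    · have h1 : z' z a = a := congrArg Subtype.val (Equiv.congr_fun hz ⟨a, ha⟩)
      rw [h1, Equiv.Perm.zpow_apply_eq_self_of_apply_eq_self (Equiv.Perm.notMem_support.1 ha)]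
  have hψker : Nat.card ψ.ker = p := by
    have hxN : x ∈ N := Subgroup.le_normalizer (hPe.ge (Subgroup.mem_zpowers x))
    have hxk : (⟨x, hxN⟩ : N) ∈ θ.ker := by
      refine MonoidHom.mem_ker.2 (MulEquiv.ext fun w => Subtype.ext ?_)
      show x * (w : H) * x⁻¹ = w
      obtain ⟨i, hi⟩ := Subgroup.mem_zpowers_iff.1 (hPe.le w.2)
      rw [← hi, ((Commute.refl x).zpow_right i).eq, mul_inv_cancel_right]
    set X : θ.ker := ⟨⟨x, hxN⟩, hxk⟩
    have hXe : ψ.ker = Subgroup.zpowers X := by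
      refine le_antisymm (fun z hz => ?_) (Subgroup.zpowers_le.2 ?_)
      · obtain ⟨i, hi⟩ := hpow z hz
        refine Subgroup.mem_zpowers_iff.2 ⟨i, Subtype.ext (Subtype.ext (Subtype.ext ?_))⟩
        rw [SubgroupClass.coe_zpow, SubgroupClass.coe_zpow, SubgroupClass.coe_zpow]
        exact hi.symm
      · exact MonoidHom.mem_ker.2 (Equiv.ext fun a => Subtype.ext (Equiv.Perm.notMem_support.1 a.2))
    rw [hXe, Nat.card_zpowers, ← Subgroup.orderOf_coe, ← Subgroup.orderOf_coe]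
    exact hx
  set e := Nat.card ψ.range with he
  have hkc : Nat.card θ.ker = p * e := by
    have h1 := Subgroup.card_mul_index ψ.ker
    rw [hψker, Subgroup.index_ker] at h1
    exact h1.symm
  have hedvd : e ∣ (Fintype.card α - p).factorial := by
    have h1 := Subgroup.card_subgroup_dvd_card ψ.range
    rwa [Nat.card_perm, Nat.card_eq_fintype_card (α := {a // a ∉ (x : Equiv.Perm α).support}),
      Fintype.card_subtype_compl, Fintype.card_coe, hsupp] at h1
  refine ⟨Nat.card (Sylow p H), Nat.card θ.range, e, ?_, ?_, hd, ?_, fun ℓ hℓ hℓe => ?_, fun z hz hzx hco => ?_⟩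
  · rw [hH]
    congr 1
    rw [← Subgroup.index_ker, mul_left_comm, ← hkc, mul_comm, Subgroup.card_mul_index]
  · have h1 := card_sylow_modEq_one p H
    rw [Nat.ModEq, Nat.mod_eq_of_lt hp.out.one_lt] at h1
    exact h1
  · exact hedvd
  · haveI := Fact.mk hℓ
    have hne : ℓ ≠ p := by
      rintro rfl
      have h1 : ℓ ∣ (Fintype.card α - ℓ).factorial := hℓe.trans hedvd
      have := hℓ.dvd_factorial.1 h1
      omega
    obtain ⟨z, hz⟩ := exists_prime_orderOf_dvd_card' ℓ (G := θ.ker) (hkc ▸ hℓe.mul_left p)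
    have hzo : orderOf (z' z) = ℓ := by
      show orderOf (((z : N) : H) : Equiv.Perm α) = ℓ
      rw [Subgroup.orderOf_coe, Subgroup.orderOf_coe, Subgroup.orderOf_coe, hz]
    refine ⟨z' z, ((z : N) : H).2, hzo, fun a ha => Finset.mem_compl.2 fun hax => ?_⟩
    have hza : z' z a ∈ (x : Equiv.Perm α).support := by
      by_contra h; exact ((hfix z a).2 h) hax
    obtain ⟨i, hi⟩ := hcyc.sameCycle (Equiv.Perm.mem_support.1 hax) (Equiv.Perm.mem_support.1 hza)
    have hit : ∀ k : ℕ, (z' z ^ k) a = ((x : Equiv.Perm α) ^ ((k : ℤ) * i)) a := by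
      intro k
      induction k with
      | zero => simp
      | succ k ih =>
        rw [pow_succ', Equiv.Perm.mul_apply, ih]
        have hc := ((show Commute (z' z) (x : Equiv.Perm α) from hcomm z).zpow_right ((k : ℤ) * i)).eq
        have h1 : z' z (((x : Equiv.Perm α) ^ ((k : ℤ) * i)) a) =
            ((x : Equiv.Perm α) ^ ((k : ℤ) * i)) (z' z a) := Equiv.congr_fun hc a
        rw [h1, ← hi, ← Equiv.Perm.mul_apply, ← zpow_add]
        congr 2
        push_cast
        ring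
    have h1 : (((x : Equiv.Perm α) ^ i) ^ ℓ) a = a := by
      rw [← zpow_natCast, ← zpow_mul, mul_comm, ← hit ℓ, ← hzo, pow_orderOf_eq_one]
      rfl
    have h2 : (((x : Equiv.Perm α) ^ i) ^ p) a = a := by
      rw [← zpow_natCast, ← zpow_mul, mul_comm, zpow_mul, zpow_natCast, ← hxo, pow_orderOf_eq_one, one_zpow]
      rfl
    have h3 : ((x : Equiv.Perm α) ^ i) a = a := by
      obtain ⟨u, v, huv⟩ := Nat.Coprime.isCoprime ((Nat.coprime_primes hℓ hp.out).2 hne)
      have e1 : ((x : Equiv.Perm α) ^ i) = (((x : Equiv.Perm α) ^ i) ^ (ℓ : ℤ)) ^ u *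
          (((x : Equiv.Perm α) ^ i) ^ (p : ℤ)) ^ v := by
        rw [← zpow_mul _ (ℓ : ℤ) u, ← zpow_mul _ (p : ℤ) v, ← zpow_add, mul_comm (ℓ : ℤ) u, mul_comm (p : ℤ) v, huv, zpow_one]
      rw [e1, Equiv.Perm.mul_apply, zpow_natCast, zpow_natCast,
        Equiv.Perm.zpow_apply_eq_self_of_apply_eq_self h2, Equiv.Perm.zpow_apply_eq_self_of_apply_eq_self h1]
    exact Equiv.Perm.mem_support.1 ha (hi.symm.trans h3)
  · have hzN : (⟨z, hz⟩ : H) ∈ N := by
      refine Subgroup.centralizer_le_normalizer _ (Subgroup.mem_centralizer_iff.2 fun w hw => ?_)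
      obtain ⟨i, hi⟩ := Subgroup.mem_zpowers_iff.1 (hPe.le hw)
      rw [← hi]
      exact (((show Commute (⟨z, hz⟩ : H) x from Subtype.ext hzx).zpow_right i).eq).symm
    have hzk : (⟨⟨z, hz⟩, hzN⟩ : N) ∈ θ.ker := by
      refine MonoidHom.mem_ker.2 (MulEquiv.ext fun w => Subtype.ext ?_)
      show (⟨z, hz⟩ : H) * (w : H) * (⟨z, hz⟩ : H)⁻¹ = w
      obtain ⟨i, hi⟩ := Subgroup.mem_zpowers_iff.1 (hPe.le w.2)
      rw [← hi, (((show Commute (⟨z, hz⟩ : H) x from Subtype.ext hzx).zpow_right i).eq), mul_inv_cancel_right]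
    set Z : θ.ker := ⟨⟨⟨z, hz⟩, hzN⟩, hzk⟩
    have hZ : orderOf z ∣ p * e := by
      have := orderOf_dvd_natCard Z
      rwa [hkc, ← Subgroup.orderOf_coe, ← Subgroup.orderOf_coe, ← Subgroup.orderOf_coe] at this
    exact hco.dvd_of_dvd_mul_left hZ

end Cfsg.Agent.Perm.LW
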