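import Cfsg.Agent.Lib.Perm.LivingstoneWagner.Orientation
import Cfsg.Agent.Lib.Perm.LivingstoneWagner.Arith
import Cfsg.Agent.Lib.Perm.LivingstoneWagner.PrimeCycle
import Cfsg.Agent.S0744
import Cfsg.Agent.S0747

/-!
Groups that are `(k-2)`- but not `(k-1)`-transitive and both `(k-1)`- and `k`-homogeneous.
-/

set_option autoImplicit false
set_option linter.unusedSectionVars false

namespace Cfsg.Agent.Perm.LW

open Equiv
open scoped Pointwise

variable {α : Type*} [Fintype α] [DecidableEq α] {G : Subgroup (Equiv.Perm α)}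

theorem descFactorial_dvd {r : ℕ} (hr : r ≤ Fintype.card α)
    (ht : MulAction.IsMultiplyPretransitive G α r) : (Fintype.card α).descFactorial r ∣ Nat.card G := by
  have htr : MulAction.IsPretransitive G (Fin r ↪ α) := ⟨fun a b => ht.exists_smul_eq a b⟩
  obtain ⟨x⟩ : Nonempty (Fin r ↪ α) := Function.Embedding.nonempty_of_card_le (by simpa)
  have h1 := MulAction.index_stabilizer G x
  replace h1 := h1.trans (congrArg Set.ncard (Set.eq_univ_of_forall fun y => htr.exists_smul_eq x y))
  rw [Set.ncard_univ] at h1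
  rw [Nat.card_eq_fintype_card (α := Fin r ↪ α), Fintype.card_embedding_eq, Fintype.card_fin] at h1
  exact h1 ▸ Subgroup.index_dvd_card _

theorem choose_dvd {k : ℕ} (hk : k ≤ Fintype.card α)
    (hh : MulAction.IsPretransitive G (Set.powersetCard α k)) :
    (Fintype.card α).choose k ∣ Nat.card G := by
  obtain ⟨s, hs⟩ := Finset.exists_subset_card_eq (s := (Finset.univ : Finset α)) (n := k) (by simpa using hk)
  have h1 := MulAction.index_stabilizer_of_transitive G (⟨s, hs.2⟩ : Set.powersetCard α k)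
  rw [Set.powersetCard.card, Nat.card_eq_fintype_card (α := α)] at h1
  exact h1 ▸ Subgroup.index_dvd_card _

theorem fixingSubgroup_card_eq {q : ℕ} (hh : MulAction.IsPretransitive G (Set.powersetCard α q))
    (s t : Finset α) (hs : s.card = q) (ht : t.card = q) :
    Nat.card (fixingSubgroup G (s : Set α)) = Nat.card (fixingSubgroup G (t : Set α)) := by
  obtain ⟨g, hg⟩ := hh.exists_smul_eq ⟨s, hs⟩ ⟨t, ht⟩
  have h1 : g • s = t := congrArg Subtype.val hg
  have hts : ∀ x ∈ t, g⁻¹ • x ∈ s := fun x hx => by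
    rw [← h1, Finset.mem_smul_finset] at hx
    obtain ⟨y, hy, rfl⟩ := hx
    rwa [inv_smul_smul]
  refine Nat.card_congr
    { toFun := fun h => ⟨g * h.1 * g⁻¹, (mem_fixingSubgroup_iff G).2 fun x hx => ?_⟩
      invFun := fun h => ⟨g⁻¹ * h.1 * g, (mem_fixingSubgroup_iff G).2 fun x hx => ?_⟩
      left_inv := fun h => Subtype.ext (by group)
      right_inv := fun h => Subtype.ext (by group) }
  · rw [mul_smul, mul_smul, (mem_fixingSubgroup_iff G).1 h.2 _ (hts x hx), smul_inv_smul]
  · rw [mul_smul, mul_smul, (mem_fixingSubgroup_iff G).1 h.2 (g • x)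
      (h1 ▸ Finset.smul_mem_smul_finset hx), inv_smul_smul]

/-- The pointwise stabiliser of a `q`-set is trivial when `G` is not `q`-transitive. -/
theorem free_of_homog {q : ℕ} (hq : 1 ≤ q) (hqn : q + 1 ≤ Fintype.card α)
    (hh1 : MulAction.IsPretransitive G (Set.powersetCard α q))
    (hh : MulAction.IsPretransitive G (Set.powersetCard α (q + 1)))
    (hnt : ¬ MulAction.IsMultiplyPretransitive G α q) {J : Type*} [Fintype J] [DecidableEq J]
    (hJ : Fintype.card J = q) (f : J ↪ α) : Free G f := by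
  obtain ⟨t, -, ht⟩ := Finset.exists_subset_card_eq (s := (Finset.univ : Finset α)) (n := q + 1) (by simpa using hqn)
  have hl : Nat.card (fixingSubgroup G ((Finset.univ.map f : Finset α) : Set α)) ≤ 1 := by
    by_contra hcon
    refine hnt ?_
    have := Cfsg.Agent.S0744.result G (k := q + 1) (by omega) hqn
      (Nat.card (fixingSubgroup G ((Finset.univ.map f : Finset α) : Set α)))
      (Nat.card (fixingSubgroup G (t : Set α))) (by omega)
      (fun s hs => fixingSubgroup_card_eq hh1 s _ (by simpa using hs) (by simp [hJ]))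
      (fun s hs => fixingSubgroup_card_eq hh s t hs ht)
    simpa using this
  intro g hg
  haveI : Subsingleton (fixingSubgroup G ((Finset.univ.map f : Finset α) : Set α)) :=
    Finite.card_le_one_iff_subsingleton.1 hl
  have hgm : g ∈ fixingSubgroup G ((Finset.univ.map f : Finset α) : Set α) := by
    rw [mem_fixingSubgroup_iff]
    intro x hx
    rw [Finset.mem_coe, Finset.mem_map] at hx
    obtain ⟨i, -, rfl⟩ := hx
    exact DFunLike.congr_fun hg i
  exact congrArg Subtype.val (Subsingleton.elim (⟨g, hgm⟩ : fixingSubgroup G ((Finset.univ.map f : Finset α) : Set α)) 1)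

theorem trans_of_equiv {J : Type*} {q : ℕ} (e : J ≃ Fin q)
    (h : MulAction.IsPretransitive G (J ↪ α)) : MulAction.IsMultiplyPretransitive G α q := by
  refine ⟨fun x y => ?_⟩
  obtain ⟨g, hg⟩ := h.exists_smul_eq (e.toEmbedding.trans x) (e.toEmbedding.trans y)
  refine ⟨g, ?_⟩
  ext i
  have := DFunLike.congr_fun hg (e.symm i)
  simpa using this

theorem eq_alternating (hG : alternatingGroup α ≤ G) (hne : G ≠ ⊤) : G = alternatingGroup α := by
  refine le_antisymm (fun g hg => ?_) hG
  by_contra hodd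
  apply hne
  refine eq_top_iff.2 fun x _ => ?_
  rw [Equiv.Perm.mem_alternatingGroup] at hodd
  have hgs : Equiv.Perm.sign g = -1 := (Int.units_eq_one_or _).resolve_left hodd
  rcases Int.units_eq_one_or (Equiv.Perm.sign x) with hx | hx
  · exact hG hx
  · have h1 : g⁻¹ * x ∈ G := hG (by rw [Equiv.Perm.mem_alternatingGroup, map_mul, map_inv, hgs, hx]; decide)
    simpa using G.mul_mem hg h1

theorem eq_alternating_of_card {J : Type*} [Fintype J] [DecidableEq J] (hJ : 2 ≤ Fintype.card J)
    (X : Subgroup (Equiv.Perm J)) (hX : 2 * Nat.card X = (Fintype.card J).factorial) :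
    X = alternatingGroup J := by
  haveI : Nontrivial J := Fintype.one_lt_card_iff_nontrivial.1 (by omega)
  refine Equiv.Perm.eq_alternatingGroup_of_index_eq_two ?_
  have h1 := X.card_mul_index
  rw [Nat.card_perm, Nat.card_eq_fintype_card (α := J), ← hX, mul_comm 2] at h1
  exact Nat.eq_of_mul_eq_mul_left Nat.card_pos h1

theorem preprimitive_of_trans {q : ℕ} (hq : 2 ≤ q) (hqn : q ≤ Fintype.card α)
    (ht : MulAction.IsMultiplyPretransitive G α q) : MulAction.IsPreprimitive G α :=
  MulAction.isPreprimitive_of_is_two_pretransitive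
    (MulAction.isMultiplyPretransitive_of_le' hq (by simpa using hqn))

/-- No solution of Sylow's congruence. -/
theorem no_cycle_solution (H : Subgroup (Equiv.Perm α)) (p : ℕ) [Fact p.Prime] {N n : ℕ}
    (hN : Nat.card H = N) (hn : Fintype.card α = n) (hn2 : n < 2 * p) (hdvd : p ∣ N)
    (h2 : ¬ p ^ 2 ∣ N)
    (hno : ∀ d ∈ Nat.divisors (p - 1), ∀ e ∈ Nat.divisors (n - p).factorial,
      ¬ (p * (d * e) ∣ N ∧ N / (p * (d * e)) % p = 1)) : False := by
  obtain ⟨x, -, -, m, d, e, hcard, hm, hd, he, -, -⟩ :=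
    cycle_count H (hn.symm ▸ hn2) (hN.symm ▸ hdvd) (hN.symm ▸ h2)
  rw [hN] at hcard
  rw [hn] at he
  have hp : p.Prime := Fact.out
  refine hno d (Nat.mem_divisors.2 ⟨hd, by have := hp.two_le; omega⟩) e
    (Nat.mem_divisors.2 ⟨he, (Nat.factorial_pos _).ne'⟩) ⟨⟨m, by rw [hcard]; ring⟩, ?_⟩
  rw [hcard, Nat.mul_div_cancel _ ?_]
  · exact hm
  · have : 0 < N := hN ▸ Nat.card_pos
    rw [hcard] at this
    exact Nat.pos_of_mul_pos_left this

theorem no_1008 (hn : Fintype.card α = 9) (hprim : MulAction.IsPreprimitive G α)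
    (hG : Nat.card G = 1008) : False := by
  haveI := Fact.mk (show Nat.Prime 7 by norm_num)
  obtain ⟨x, -, hxo, m, d, e, hcard, hm, hd, he, hz, -⟩ :=
    cycle_count G (p := 7) (by omega) (by rw [hG]; norm_num) (by rw [hG]; norm_num)
  rw [hG] at hcard
  rw [hn] at he
  have hd' : d ∈ Nat.divisors 6 := Nat.mem_divisors.2 ⟨hd, by norm_num⟩
  have he' : e ∈ Nat.divisors 2 := Nat.mem_divisors.2 ⟨he, by norm_num⟩
  have hdiv : 7 * (d * e) ∣ 1008 ∧ 1008 / (7 * (d * e)) % 7 = 1 := by
    refine ⟨⟨m, by rw [hcard]; ring⟩, ?_⟩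
    rw [hcard, Nat.mul_div_cancel _ (Nat.pos_of_mul_pos_left (hcard ▸ (by norm_num : 0 < 1008)))]
    exact hm
  have key : ∀ d ∈ Nat.divisors 6, ∀ e ∈ Nat.divisors 2,
      (7 * (d * e) ∣ 1008 ∧ 1008 / (7 * (d * e)) % 7 = 1) → e = 2 := by decide
  obtain ⟨z, hzG, hzo, hzs⟩ := hz 2 Nat.prime_two (key d hd' e he' hdiv ▸ dvd_rfl)
  have hxs : x.support.card = 7 := by
    rw [← hxo]
    exact (Equiv.Perm.isCycle_of_prime_order' (hxo.symm ▸ (by norm_num)) (by rw [hxo]; omega)).orderOf.symm
  have hzc : z.support.card ≤ 2 := by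
    refine (Finset.card_le_card hzs).trans ?_
    rw [Finset.card_compl, hxs, hn]
  have hz1 : z ≠ 1 := fun h => by rw [h, orderOf_one] at hzo; omega
  have hsw : z.IsSwap := Equiv.Perm.card_support_eq_two.1
    (le_antisymm hzc (Equiv.Perm.one_lt_card_support_of_ne_one hz1))
  have htop := Equiv.Perm.subgroup_eq_top_of_isPreprimitive_of_isSwap_mem hprim z hsw hzG
  rw [htop, Subgroup.card_top, Nat.card_perm, Nat.card_eq_fintype_card, hn] at hG
  norm_num [Nat.factorial] at hG

theorem exists_stab_subgroup (ht : MulAction.IsPretransitive G α) {N : ℕ}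
    (hN : Nat.card G = Fintype.card α * N) (a : α) (hpos : 0 < Fintype.card α) :
    Nat.card ((MulAction.stabilizer G a).map G.subtype) = N := by
  rw [Subgroup.card_map_of_injective G.subtype_injective]
  have h1 := Subgroup.card_mul_index (MulAction.stabilizer G a)
  rw [MulAction.index_stabilizer_of_transitive, Nat.card_eq_fintype_card (α := α), hN, mul_comm] at h1
  exact Nat.eq_of_mul_eq_mul_left hpos h1

theorem exists_index_two {H : Type*} [Group H] [Finite H] {m : ℕ} (hm : Odd m)
    (hH : Nat.card H = 2 * m) : ∃ K : Subgroup H, Nat.card K = m := by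
  classical
  haveI := Fintype.ofFinite H
  obtain ⟨t, ht⟩ := exists_prime_orderOf_dvd_card' 2 (hH ▸ Dvd.intro m rfl)
  let ρ : H →* Equiv.Perm H := MulAction.toPermHom H H
  have hρo : orderOf (ρ t) = 2 := by
    rw [orderOf_injective ρ MulAction.toPerm_injective, ht]
  obtain ⟨k, hk⟩ := Equiv.Perm.cycleType_prime_order (σ := ρ t) (by rw [hρo]; exact Nat.prime_two)
  have hsupp : (ρ t).support = Finset.univ := by
    refine Finset.eq_univ_iff_forall.2 fun h => Equiv.Perm.mem_support.2 fun he => ?_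
    have h1 : t = 1 := mul_eq_right.1 (show t * h = h from he)
    rw [h1, orderOf_one] at ht
    omega
  have hk1 : k + 1 = m := by
    have h1 := Equiv.Perm.sum_cycleType (ρ t)
    rw [hk, hρo, hsupp, Finset.card_univ, ← Nat.card_eq_fintype_card, hH, Multiset.sum_replicate,
      smul_eq_mul] at h1
    omega
  have hsign : Equiv.Perm.sign (ρ t) = -1 := by
    rw [Equiv.Perm.sign_of_cycleType, hk, hρo, hk1, Multiset.sum_replicate, Multiset.card_replicate,
      smul_eq_mul]
    exact Odd.neg_one_pow (by obtain ⟨c, rfl⟩ := hm; exact ⟨3 * c + 1, by ring⟩)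
  let φ : H →* ℤˣ := Equiv.Perm.sign.comp ρ
  have hr : φ.range = ⊤ := by
    refine eq_top_iff.2 fun u _ => ?_
    rcases Int.units_eq_one_or u with rfl | rfl
    · exact one_mem _
    · exact ⟨t, hsign⟩
  refine ⟨φ.ker, ?_⟩
  have h1 := Subgroup.card_mul_index φ.ker
  rw [Subgroup.index_ker, hr, Subgroup.card_top, Nat.card_eq_fintype_card (α := ℤˣ),
    Fintype.card_units_int, hH, mul_comm 2] at h1
  exact Nat.eq_of_mul_eq_mul_right two_pos h1

theorem no_210 (hn : Fintype.card α = 7) (ht : MulAction.IsPretransitive G α)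
    (hG : Nat.card G = 210) : False := by
  haveI := Fact.mk (show Nat.Prime 5 by norm_num)
  haveI := Fact.mk (show Nat.Prime 3 by norm_num)
  haveI : Nonempty α := Fintype.card_pos_iff.1 (by omega)
  obtain ⟨a⟩ := (inferInstance : Nonempty α)
  set H := (MulAction.stabilizer G a).map G.subtype
  have hH : Nat.card H = 30 := exists_stab_subgroup ht (by rw [hG, hn]) a (by omega)
  obtain ⟨K, hK⟩ := exists_index_two (m := 15) (by decide) (hH.trans (by norm_num))
  set K' := K.map H.subtype with hK'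
  have hK'c : Nat.card K' = 15 := by rw [hK', Subgroup.card_map_of_injective H.subtype_injective, hK]
  obtain ⟨x, hxK, hxo, m, d, e, hcard, hm, hd, he, -, hz⟩ :=
    cycle_count K' (p := 5) (by omega) (by rw [hK'c]; norm_num) (by rw [hK'c]; norm_num)
  obtain ⟨z, hz3⟩ := exists_prime_orderOf_dvd_card' 3 (G := K') (hK'c ▸ (by norm_num : 3 ∣ 15))
  have hnorm : ∀ (p : ℕ) [Fact p.Prime], (p = 3 ∨ p = 5) → ∀ g : K', orderOf g = p →
      (Subgroup.zpowers g).Normal := by
    intro p _ hp g hg
    let P : Sylow p K' := Sylow.ofCard (Subgroup.zpowers g) (by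
      rw [Nat.card_zpowers, hg, hK'c]
      have : (15 : ℕ).factorization p = 1 := by
        have e : (15 : ℕ) = 3 * 5 := by norm_num
        rw [e, Nat.factorization_mul (by norm_num) (by norm_num), Nat.Prime.factorization (by norm_num),
          Nat.Prime.factorization (by norm_num)]
        rcases hp with rfl | rfl <;> simp
      rw [this, pow_one])
    have h1 := card_sylow_modEq_one p K'
    have h2 : Nat.card (Sylow p K') ∣ 15 := hK'c ▸ (Sylow.card_dvd_index P).trans (Subgroup.index_dvd_card _)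
    have hind : Nat.card (Sylow p K') * p ∣ 15 := by
      have h3 := Sylow.card_dvd_index P
      have h4 := Subgroup.index_mul_card (P : Subgroup K')
      rw [show Nat.card (P : Subgroup K') = p by rw [Sylow.coe_ofCard, Nat.card_zpowers, hg], hK'c] at h4
      exact h4 ▸ Nat.mul_dvd_mul_right h3 p
    have hone : Nat.card (Sylow p K') = 1 := by
      have h5 : Nat.card (Sylow p K') ≤ 15 := Nat.le_of_dvd (by norm_num) h2
      rw [Nat.ModEq] at h1
      rcases hp with rfl | rfl <;>
        · generalize Nat.card (Sylow _ K') = c at h1 h2 h5 hind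
          interval_cases c <;> omega
    haveI : Subsingleton (Sylow p K') := (Nat.card_eq_one_iff_unique.1 hone).1
    have := P.normal_of_subsingleton
    rwa [Sylow.coe_ofCard] at this
  have hxo' : orderOf (⟨x, hxK⟩ : K') = 5 := by rw [← Subgroup.orderOf_coe]; exact hxo
  have hn3 := hnorm 3 (Or.inl rfl) z hz3
  have hn5 := hnorm 5 (Or.inr rfl) ⟨x, hxK⟩ hxo'
  have hdis : Disjoint (Subgroup.zpowers z) (Subgroup.zpowers (⟨x, hxK⟩ : K')) :=
    Subgroup.disjoint_of_coprime_natCard (by rw [Nat.card_zpowers, Nat.card_zpowers, hz3, hxo']; norm_num)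
  have hcom := Subgroup.commute_of_normal_of_disjoint _ _ hn3 hn5 hdis z ⟨x, hxK⟩
    (Subgroup.mem_zpowers _) (Subgroup.mem_zpowers _)
  have hzo : orderOf (z : Equiv.Perm α) = 3 := (Subgroup.orderOf_coe z).trans hz3
  have h3 := hz z z.2 (congrArg Subtype.val hcom.eq) (by rw [hzo]; norm_num)
  rw [hn] at he
  rw [hzo] at h3
  exact absurd (Nat.le_of_dvd (by norm_num) (h3.trans he)) (by norm_num [Nat.factorial])

theorem no_27 (hn : Fintype.card α = 27) (hprim : MulAction.IsPreprimitive G α)
    (hG : Nat.card G = 106563600) : False := by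
  haveI := Fact.mk (show Nat.Prime 23 by norm_num)
  haveI : Nonempty α := Fintype.card_pos_iff.1 (by omega)
  obtain ⟨a⟩ := (inferInstance : Nonempty α)
  set H := (MulAction.stabilizer G a).map G.subtype
  have hH : Nat.card H = 3946800 :=
    exists_stab_subgroup hprim.toIsPretransitive (by rw [hG, hn]) a (by omega)
  obtain ⟨x, -, hxo, m, d, e, hcard, hm, hd, he, hz, -⟩ :=
    cycle_count H (p := 23) (by omega) (by rw [hH]; norm_num) (by rw [hH]; norm_num)
  rw [hH] at hcard
  rw [hn] at he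
  have hd' : d ∈ Nat.divisors 22 := Nat.mem_divisors.2 ⟨hd, by norm_num⟩
  have he' : e ∈ Nat.divisors 24 := Nat.mem_divisors.2 ⟨he, by norm_num⟩
  have hdiv : 23 * (d * e) ∣ 3946800 ∧ 3946800 / (23 * (d * e)) % 23 = 1 := by
    refine ⟨⟨m, by rw [hcard]; ring⟩, ?_⟩
    rw [hcard, Nat.mul_div_cancel _ (Nat.pos_of_mul_pos_left (hcard ▸ (by norm_num : 0 < 3946800)))]
    exact hm
  have key : ∀ d ∈ Nat.divisors 22, ∀ e ∈ Nat.divisors 24,
      (23 * (d * e) ∣ 3946800 ∧ 3946800 / (23 * (d * e)) % 23 = 1) → 3 ∣ e := by decide +kernel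
  obtain ⟨z, hzH, hzo, hzs⟩ := hz 3 Nat.prime_three (key d hd' e he' hdiv)
  have hxs : x.support.card = 23 := by
    rw [← hxo]
    exact (Equiv.Perm.isCycle_of_prime_order' (hxo.symm ▸ (by norm_num)) (by rw [hxo]; omega)).orderOf.symm
  have hzc : z.support.card ≤ 4 := by
    refine (Finset.card_le_card hzs).trans ?_
    rw [Finset.card_compl, hxs, hn]
  obtain ⟨k, hk⟩ := Equiv.Perm.cycleType_prime_order (σ := z) (by rw [hzo]; exact Nat.prime_three)
  have hk0 : k = 0 := by
    have h1 := Equiv.Perm.sum_cycleType z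
    rw [hk, hzo, Multiset.sum_replicate, smul_eq_mul] at h1
    omega
  have h3c : z.IsThreeCycle := by
    show z.cycleType = {3}
    rw [hk, hk0, hzo]; rfl
  obtain ⟨g, -, rfl⟩ := hzH
  have hle := Equiv.Perm.alternatingGroup_le_of_isPreprimitive_of_isThreeCycle_mem hprim h3c g.2
  have h1 := Subgroup.card_le_of_le hle
  haveI : Nontrivial α := Fintype.one_lt_card_iff_nontrivial.1 (by omega)
  have h2 := two_mul_card_alternatingGroup (α := α)
  rw [Fintype.card_perm, hn, ← Nat.card_eq_fintype_card] at h2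
  rw [hG] at h1
  have : Nat.factorial 27 ≤ 2 * 106563600 := by omega
  norm_num [Nat.factorial] at this

theorem cases_four : ∀ x < 4, ∀ n < 16, (x ∣ 6 ∧ x < 3 ∧ 5 ≤ n ∧ 6 ∣ (n - 2) * x ∧ (n - 3) ∣ 4 * x) →
    (x = 2 ∧ (n = 5 ∨ n = 11)) := by decide +kernel

set_option synthInstance.maxSize 4096 in
theorem cases_five : ∀ x < 13, ∀ n < 45, (x ∣ 24 ∧ x < 12 ∧ 6 ≤ n ∧ 24 ∣ (n - 3) * x ∧ (n - 4) ∣ 5 * x) →
    (x = 8 ∧ (n = 6 ∨ n = 9 ∨ n = 12 ∨ n = 24)) ∨ (x = 6 ∧ (n = 7 ∨ n = 19)) ∨ (x = 4 ∧ n = 9) ∨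
      (x = 3 ∧ n = 19) := by decide +kernel

/-- The classification. -/
theorem livingstone_wagner {r : ℕ} (hr : 1 ≤ r) (hkn : r + 2 ≤ Fintype.card α)
    (ht : MulAction.IsMultiplyPretransitive G α r)
    (hnt : ¬ MulAction.IsMultiplyPretransitive G α (r + 1))
    (hh1 : MulAction.IsPretransitive G (Set.powersetCard α (r + 1)))
    (hh : MulAction.IsPretransitive G (Set.powersetCard α (r + 2))) :
    (r + 2 = Fintype.card α ∧ G = alternatingGroup α) ∨
      (Fintype.card α = 5 ∧ r + 2 = 4 ∧ Nat.card G = 20) ∨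
      (Fintype.card α = 6 ∧ r + 2 = 5 ∧ Nat.card G = 120) ∨
      (Fintype.card α = 9 ∧ r + 2 = 5 ∧ (Nat.card G = 504 ∨ Nat.card G = 1512)) := by
  classical
  rcases eq_or_lt_of_le hkn with hnk | hnk
  · left
    refine ⟨hnk, eq_alternating ?_ fun htop => ?_⟩
    · refine IsMultiplyPretransitive.alternatingGroup_le α G ?_
      rwa [Nat.card_eq_fintype_card, ← hnk, Nat.add_sub_cancel]
    · apply hnt
      subst htop
      haveI := Equiv.Perm.isMultiplyPretransitive α (r + 1)
      refine ⟨fun x y => ?_⟩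
      obtain ⟨g, hg⟩ := MulAction.exists_smul_eq (Equiv.Perm α) x y
      exact ⟨⟨g, Subgroup.mem_top g⟩, hg⟩
  right
  set n := Fintype.card α with hn
  have hcJ : Fintype.card (Option (Fin r)) = r + 1 := by simp
  have hh₁ : Homog G (Option (Fin r)) := homog_of_pretransitive hcJ hh1
  have hh₂ : Homog G (Option (Option (Fin r))) := homog_of_pretransitive (by simp) hh
  have hfree : ∀ f : Option (Fin r) ↪ α, Free G f :=
    free_of_homog (by omega) (by omega) hh1 hh hnt hcJ
  have hne : ∀ f : Option (Fin r) ↪ α, imgGroup G f ≠ ⊤ := fun f h =>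
    hnt (trans_of_equiv (Fintype.equivFinOfCardEq hcJ) (imgGroup_top_trans hh₁ h))
  obtain ⟨f₁⟩ : Nonempty (Option (Fin r) ↪ α) := Function.Embedding.nonempty_of_card_le (by rw [hcJ]; omega)
  -- the alternating case
  have halt : ∀ f₀ : Option (Fin r) ↪ α, imgGroup G f₀ = alternatingGroup (Option (Fin r)) →
      (r = 3 ∧ n = 9 ∧ Nat.card G = 1512) := by
    intro f₀ hX
    obtain ⟨j, hj, heq, hC⟩ := orientation_bound hr ht hh₁ hh₂ hkn f₀ (hfree f₀) hX
    have hcl := classify (n := n) (k := r + 2) (j := j) (by omega) (by omega) hj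
      (by push_cast; rw [← heq]; ring) (by simpa using hC)
    have hcG := card_eq_choose hh₁ (hfree f₀)
    rw [hcJ, hX, ← hn] at hcG
    haveI : Nontrivial (Option (Fin r)) := Fintype.one_lt_card_iff_nontrivial.1 (by omega)
    have hA := two_mul_card_alternatingGroup (α := Option (Fin r))
    rw [Fintype.card_perm, hcJ, ← Nat.card_eq_fintype_card] at hA
    rcases hcl with ⟨hk5, hn9⟩ | ⟨hk7, hn27⟩
    · obtain rfl : r = 3 := by omega
      rw [hn9, show Nat.choose 9 (3 + 1) = 126 from rfl] at hcG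
      rw [show Nat.factorial (3 + 1) = 24 from rfl] at hA
      exact ⟨rfl, hn9, by omega⟩
    · exfalso
      obtain rfl : r = 5 := by omega
      have hch : Nat.choose 27 (5 + 1) = 296010 := by decide +kernel
      rw [hn27, hch] at hcG
      rw [show Nat.factorial (5 + 1) = 720 from rfl] at hA
      exact no_27 (hn ▸ hn27) (preprimitive_of_trans (by omega) (by omega) ht) (by omega)
  rcases Nat.lt_or_ge r 4 with hr4 | hr4
  swap
  · -- at least four-fold transitive
    obtain ⟨Δ, hΔc, hΔ⟩ := Cfsg.Agent.S0747.result G hr4 (by omega) ht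
    obtain ⟨e⟩ : Nonempty (Option (Fin r) ≃ Δ) := ⟨Fintype.equivOfCardEq (by simp [hΔc])⟩
    let f₀ : Option (Fin r) ↪ α := e.toEmbedding.trans (Function.Embedding.subtype _)
    have hle : alternatingGroup (Option (Fin r)) ≤ imgGroup G f₀ := by
      intro σ hσ
      obtain ⟨g, hg, hge⟩ := hΔ (e.permCongr σ) (by
        rw [Equiv.Perm.mem_alternatingGroup, Equiv.Perm.sign_permCongr]; exact hσ)
      refine mem_imgGroup.2 ⟨⟨g, hg⟩, ?_⟩
      ext i
      show g (e i : α) = (e (σ i) : α)
      rw [hge (e i)]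
      simp [Equiv.permCongr_apply]
    have := halt f₀ (eq_alternating hle (hne f₀))
    omega
  -- small values
  set X := imgGroup G f₁ with hXdef
  set x := Nat.card X with hx
  have hxdvd : x ∣ (r + 1).factorial := by
    have := Subgroup.card_subgroup_dvd_card X
    rwa [Nat.card_perm, Nat.card_eq_fintype_card (α := Option (Fin r)), hcJ] at this
  have hxne : x ≠ (r + 1).factorial := fun h => hne f₁ (Subgroup.eq_top_of_card_eq _ (by
    rw [Nat.card_perm, Nat.card_eq_fintype_card (α := Option (Fin r)), hcJ]; exact h))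
  by_cases hhalf : 2 * x = (r + 1).factorial
  · have h := halt f₁ (eq_alternating_of_card (by omega) X (by rw [hcJ]; exact hhalf))
    exact Or.inr (Or.inr ⟨h.2.1, by omega, Or.inr h.2.2⟩)
  have hxhalf : 2 * x < (r + 1).factorial := by
    obtain ⟨c, hc⟩ := hxdvd
    have hx0 : 0 < x := Nat.card_pos
    have hc3 : 3 ≤ c := by
      rcases c with _ | _ | _ | c
      · have := (r + 1).factorial_pos; omega
      · omega
      · omega
      · omega
    nlinarith
  have hcG : Nat.card G = n.choose (r + 1) * x := by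
    have h1 := card_eq_choose hh₁ (hfree f₁)
    rwa [hcJ] at h1
  have hcond1 : (r + 1).factorial ∣ (n - r) * x := by
    have h1 := descFactorial_dvd (by omega) ht
    rw [← hn, hcG] at h1
    have h2 : (r + 1).factorial * n.descFactorial r ∣ (n - r) * x * n.descFactorial r := by
      refine (mul_dvd_mul_left _ h1).trans (Eq.dvd ?_)
      rw [← mul_assoc, ← Nat.descFactorial_eq_factorial_mul_choose, Nat.descFactorial_succ]
      ring
    refine Nat.dvd_of_mul_dvd_mul_right ?_ h2
    exact Nat.pos_of_ne_zero (by rw [Ne, Nat.descFactorial_eq_zero_iff_lt]; omega)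
  have hcond2 : (n - (r + 1)) ∣ (r + 2) * x := by
    have h1 := choose_dvd (by omega) hh
    rw [← hn, hcG] at h1
    obtain ⟨c, hc⟩ := h1
    refine ⟨c, Nat.eq_of_mul_eq_mul_left (Nat.choose_pos (show r + 1 ≤ n by omega)) ?_⟩
    calc n.choose (r + 1) * ((r + 2) * x) = (r + 2) * (n.choose (r + 1) * x) := by ring
      _ = n.choose (r + 2) * (r + 2) * c := by rw [hc]; ring
      _ = _ := by rw [Nat.choose_succ_right_eq]; ring
  have hnb : n - (r + 1) ≤ (r + 2) * x := Nat.le_of_dvd (mul_pos (by omega) Nat.card_pos) hcond2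
  obtain rfl | rfl | rfl : r = 1 ∨ r = 2 ∨ r = 3 := by omega
  · norm_num [Nat.factorial] at hxhalf
    have : 0 < x := Nat.card_pos
    omega
  · norm_num [Nat.factorial] at hxhalf hxdvd hcond1
    rcases cases_four x (by omega) n (by omega) ⟨hxdvd, by omega, by omega, hcond1, hcond2⟩ with
      ⟨hx2, hn5 | hn11⟩
    · exact Or.inl ⟨hn5, rfl, by rw [hcG, hn5, hx2]; rfl⟩
    · exfalso
      haveI := Fact.mk (show Nat.Prime 11 by norm_num)
      exact no_cycle_solution G 11 (N := 330) (n := 11) (by rw [hcG, hn11, hx2]; rfl) (hn ▸ hn11)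
        (by norm_num) (by norm_num) (by norm_num) (by decide +kernel)
  · rw [show Nat.factorial (3 + 1) = 24 from rfl] at hxhalf hxdvd hcond1
    simp only [show (3 : ℕ) + 1 = 4 from rfl, show (3 : ℕ) + 2 = 5 from rfl] at hnb hcond2 hnk
    have hx8' : x ≤ 8 := (show ∀ y < 12, y ∣ 24 → y ≤ 8 by decide) x (by omega) hxdvd
    rcases cases_five x (by omega) n (by omega) ⟨hxdvd, by omega, by omega, hcond1, hcond2⟩ with
      ⟨hx8, hn6 | hn9 | hn12 | hn24⟩ | ⟨hx6, hn7 | hn19⟩ | ⟨hx4, hn9⟩ | ⟨hx3, hn19⟩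
    · exact Or.inr (Or.inl ⟨hn6, rfl, by rw [hcG, hn6, hx8]; rfl⟩)
    · exfalso
      exact no_1008 (hn ▸ hn9) (preprimitive_of_trans (by omega) (by omega) ht)
        (by rw [hcG, hn9, hx8]; rfl)
    · exfalso
      haveI := Fact.mk (show Nat.Prime 11 by norm_num)
      exact no_cycle_solution G 11 (N := 3960) (n := 12) (by rw [hcG, hn12, hx8]; rfl) (hn ▸ hn12)
        (by norm_num) (by norm_num) (by norm_num) (by decide +kernel)
    · exfalso
      haveI := Fact.mk (show Nat.Prime 23 by norm_num)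
      exact no_cycle_solution G 23 (N := 85008) (n := 24) (by rw [hcG, hn24, hx8]; rfl) (hn ▸ hn24)
        (by norm_num) (by norm_num) (by norm_num) (by decide +kernel)
    · exfalso
      haveI : MulAction.IsMultiplyPretransitive G α 1 :=
        MulAction.isMultiplyPretransitive_of_le' (n := 3) (by norm_num) (by simp; omega)
      exact no_210 (hn ▸ hn7) (MulAction.is_one_pretransitive_iff.1 inferInstance)
        (by rw [hcG, hn7, hx6]; rfl)
    · exfalso
      haveI := Fact.mk (show Nat.Prime 19 by norm_num)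
      exact no_cycle_solution G 19 (N := 23256) (n := 19) (by rw [hcG, hn19, hx6]; rfl) (hn ▸ hn19)
        (by norm_num) (by norm_num) (by norm_num) (by decide +kernel)
    · exact Or.inr (Or.inr ⟨hn9, rfl, Or.inl (by rw [hcG, hn9, hx4]; rfl)⟩)
    · exfalso
      haveI := Fact.mk (show Nat.Prime 19 by norm_num)
      exact no_cycle_solution G 19 (N := 11628) (n := 19) (by rw [hcG, hn19, hx3]; rfl) (hn ▸ hn19)
        (by norm_num) (by norm_num) (by norm_num) (by decide +kernel)

end Cfsg.Agent.Perm.LW
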