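import Cfsg.Agent.Lib.Perm.LivingstoneWagner.TupleImage

/-!
A group inducing exactly the alternating group on the `q`-subsets defines an orientation of the
`q`-tuples; counting the signs on the `(q+1)`-subsets.
-/

set_option autoImplicit false
set_option linter.unusedSectionVars false

namespace Cfsg.Agent.Perm.LW

open Equiv

variable {α : Type*} [Fintype α] [DecidableEq α] {G : Subgroup (Equiv.Perm α)}

/-- An orientation of the tuples preserved by `G`. -/
structure IsOrient (G : Subgroup (Equiv.Perm α)) {J : Type*} [Fintype J] [DecidableEq J]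
    (ε : (J ↪ α) → ℤ) : Prop where
  sq : ∀ f, ε f * ε f = 1
  inv : ∀ (g : G) f, ε (g • f) = ε f
  alt : ∀ f (σ : Equiv.Perm J), ε (re f σ) = (Equiv.Perm.sign σ : ℤ) * ε f

theorem sign_mul_self {J : Type*} [Fintype J] [DecidableEq J] (σ : Equiv.Perm J) :
    (Equiv.Perm.sign σ : ℤ) * (Equiv.Perm.sign σ : ℤ) = 1 := by
  rcases Int.units_eq_one_or (Equiv.Perm.sign σ) with h | h <;> simp [h]

theorem exists_orient {J : Type*} [Fintype J] [DecidableEq J] (hh : Homog G J) {f₀ : J ↪ α}
    (hX : imgGroup G f₀ = alternatingGroup J) : ∃ ε : (J ↪ α) → ℤ, IsOrient G ε := by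
  choose g σ hgσ using fun f => hh f f₀
  have huniq : ∀ (f : J ↪ α) (h : G) (τ : Equiv.Perm J), h • f = re f₀ τ →
      Equiv.Perm.sign (σ f) = Equiv.Perm.sign τ := by
    intro f h τ hτ
    have h1 : (h * (g f)⁻¹) • re f₀ (σ f) = re f₀ τ := by
      rw [← hgσ, ← gmul_smul, inv_mul_cancel_right, hτ]
    rw [smul_re] at h1
    have h2 := congrArg (fun e => re e (σ f)⁻¹) h1
    simp only [re_re, mul_inv_cancel, re_one] at h2
    have h3 : τ * (σ f)⁻¹ ∈ alternatingGroup J := hX ▸ mem_imgGroup.2 ⟨_, h2⟩
    rw [Equiv.Perm.mem_alternatingGroup, map_mul, map_inv, mul_inv_eq_one] at h3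
    exact h3.symm
  refine ⟨fun f => (Equiv.Perm.sign (σ f) : ℤ), fun f => sign_mul_self _, fun h f => ?_, fun f π => ?_⟩
  · show (Equiv.Perm.sign (σ (h • f)) : ℤ) = (Equiv.Perm.sign (σ f) : ℤ)
    rw [huniq (h • f) (g f * h⁻¹) (σ f) (by rw [← gmul_smul, inv_mul_cancel_right, hgσ])]
  · show (Equiv.Perm.sign (σ (re f π)) : ℤ) = _
    rw [huniq (re f π) (g f) (σ f * π) (by rw [smul_re, hgσ, re_re]), map_mul, Units.val_mul, mul_comm]

section Count

variable {r : ℕ} {ε : (Option (Fin r) ↪ α) → ℤ}

/-- The first `q` entries. -/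
def P₀ (ε : (Option (Fin r) ↪ α) → ℤ) (e : Option (Option (Fin r)) ↪ α) : ℤ :=
  ε (Function.Embedding.some.trans e)

/-- The sign at the entry `a`. -/
def w (ε : (Option (Fin r) ↪ α) → ℤ) (a : Option (Option (Fin r)))
    (e : Option (Option (Fin r)) ↪ α) : ℤ :=
  (Equiv.Perm.sign (Equiv.swap none a) : ℤ) * P₀ ε (re e (Equiv.swap none a))

/-- The sum of the signs. -/
def ssum (ε : (Option (Fin r) ↪ α) → ℤ) (e : Option (Option (Fin r)) ↪ α) : ℤ := ∑ a, w ε a e

variable (hε : IsOrient G ε)

include hε

theorem w_sq (a : Option (Option (Fin r))) (e : Option (Option (Fin r)) ↪ α) :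
    w ε a e * w ε a e = 1 := by
  rw [w, mul_mul_mul_comm, sign_mul_self, P₀, hε.sq, one_mul]

theorem P₀_re_fix (e : Option (Option (Fin r)) ↪ α) {τ : Equiv.Perm (Option (Option (Fin r)))}
    (hτ : τ none = none) : P₀ ε (re e τ) = (Equiv.Perm.sign τ : ℤ) * P₀ ε e := by
  have h1 : τ = (Equiv.removeNone τ).optionCongr := by
    have := Equiv.Perm.decomposeOption.left_inv τ
    conv_lhs => rw [← this]
    simp [hτ, ← Equiv.Perm.one_def]
  conv_lhs => rw [h1]
  conv_rhs => rw [h1, Equiv.optionCongr_sign, P₀, ← hε.alt]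
  rw [P₀]
  congr 1

theorem w_re (a : Option (Option (Fin r))) (e : Option (Option (Fin r)) ↪ α)
    (ρ : Equiv.Perm (Option (Option (Fin r)))) :
    w ε a (re e ρ) = (Equiv.Perm.sign ρ : ℤ) * w ε (ρ a) e := by
  set τ := Equiv.swap none (ρ a) * ρ * Equiv.swap none a with hτdef
  have hτ : τ none = none := by simp [hτdef]
  have h1 : ρ * Equiv.swap none a = Equiv.swap none (ρ a) * τ := by
    rw [hτdef, mul_assoc, Equiv.swap_mul_self_mul]
  rw [w, re_re, h1, ← re_re, P₀_re_fix hε _ hτ, w]
  have h2 : (Equiv.Perm.sign τ : ℤ) = (Equiv.Perm.sign (Equiv.swap none (ρ a)) : ℤ) *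
      (Equiv.Perm.sign ρ : ℤ) * (Equiv.Perm.sign (Equiv.swap none a) : ℤ) := by
    simp only [hτdef, map_mul, Units.val_mul]
  rw [h2]
  have h3 := sign_mul_self (Equiv.swap (none : Option (Option (Fin r))) a)
  linear_combination ((Equiv.Perm.sign (Equiv.swap none (ρ a)) : ℤ) * (Equiv.Perm.sign ρ : ℤ) *
    P₀ ε (re e (Equiv.swap none (ρ a)))) * h3

theorem w_smul (a : Option (Option (Fin r))) (e : Option (Option (Fin r)) ↪ α) (g : G) :
    w ε a (g • e) = w ε a e := by
  show _ * ε (g • Function.Embedding.some.trans (re e (Equiv.swap none a))) = _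
  rw [hε.inv]
  rfl

theorem ssum_re (e : Option (Option (Fin r)) ↪ α) (ρ : Equiv.Perm (Option (Option (Fin r)))) :
    ssum ε (re e ρ) = (Equiv.Perm.sign ρ : ℤ) * ssum ε e := by
  rw [ssum, ssum, Finset.mul_sum, ← Equiv.sum_comp ρ (fun a => (Equiv.Perm.sign ρ : ℤ) * w ε a e)]
  exact Finset.sum_congr rfl fun a _ => w_re hε a e ρ

theorem ssum_sq_const (hh : Homog G (Option (Option (Fin r)))) (e e' : Option (Option (Fin r)) ↪ α) :
    ssum ε e * ssum ε e = ssum ε e' * ssum ε e' := by
  obtain ⟨g, σ, hg⟩ := hh e e'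
  have h1 : ssum ε e = (Equiv.Perm.sign σ : ℤ) * ssum ε e' := by
    rw [← ssum_re hε, ← hg, ssum, ssum]
    exact Finset.sum_congr rfl fun a _ => (w_smul hε a e g).symm
  rw [h1, mul_mul_mul_comm, sign_mul_self, one_mul]

omit hε in
/-- A pair of a smaller tuple and a further point. -/
noncomputable def Ext (ε : (Option (Fin r) ↪ α) → ℤ) (h : Fin r ↪ α) (x : α) : ℤ :=
  if hx : x ∈ Set.range h then 0 else ε (h.optionElim x hx)

omit hε in
theorem ext_restrict (f : Option (Fin r) ↪ α) :
    Ext ε (Function.Embedding.some.trans f) (f none) = ε f := by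
  rw [Ext, dif_neg]
  · congr 1
    ext i
    cases i <;> rfl
  · rintro ⟨i, hi⟩
    exact Option.some_ne_none i (f.injective hi)

theorem sum_ext (hr : 1 ≤ r) (ht : MulAction.IsPretransitive G (Fin r ↪ α)) (h : Fin r ↪ α) :
    ∑ x, Ext ε h x = 0 := by
  classical
  set A : (Fin r ↪ α) → ℤ := fun h => ∑ x, Ext ε h x
  have hA : ∀ (g : G) h, A (g • h) = A h := by
    intro g h
    show ∑ x, Ext ε (g • h) x = ∑ x, Ext ε h x
    rw [← Equiv.sum_comp (g : Equiv.Perm α) (fun x => Ext ε (g • h) x)]
    refine Finset.sum_congr rfl fun x _ => ?_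
    have hiff : (g : Equiv.Perm α) x ∈ Set.range (g • h) ↔ x ∈ Set.range h :=
      ⟨fun ⟨i, hi⟩ => ⟨i, (g : Equiv.Perm α).injective hi⟩,
        fun ⟨i, hi⟩ => ⟨i, congrArg (g : Equiv.Perm α) hi⟩⟩
    unfold Ext
    by_cases hx : x ∈ Set.range h
    · rw [dif_pos (hiff.2 hx), dif_pos hx]
    · rw [dif_neg (fun h' => hx (hiff.1 h')), dif_neg hx, ← hε.inv g (h.optionElim x hx)]
      congr 1
      ext i
      cases i <;> rfl
  have htot : ∑ f : Option (Fin r) ↪ α, ε f = 0 := by
    let π : Equiv.Perm (Option (Fin r)) := Equiv.swap none (some ⟨0, hr⟩)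
    let Φ : (Option (Fin r) ↪ α) ≃ (Option (Fin r) ↪ α) :=
      { toFun := fun f => re f π
        invFun := fun f => re f π
        left_inv := fun f => by simp [re_re, π, re_one]
        right_inv := fun f => by simp [re_re, π, re_one] }
    have h1 : ∑ f, ε f = ∑ f, ε (Φ f) := (Equiv.sum_comp Φ ε).symm
    have h2 : ∀ f, ε (Φ f) = - ε f := fun f => by
      show ε (re f π) = _
      rw [hε.alt, Equiv.Perm.sign_swap (Option.some_ne_none _).symm]; simp
    rw [Finset.sum_congr rfl fun f _ => h2 f, Finset.sum_neg_distrib] at h1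
    linarith
  have hsum : ∑ f : Option (Fin r) ↪ α, ε f = ∑ h : Fin r ↪ α, A h := by
    have h1 : ∑ f : Option (Fin r) ↪ α, ε f =
        ∑ p : (Fin r ↪ α) × α, Ext ε p.1 p.2 := by
      refine Fintype.sum_of_injective
        (fun f : Option (Fin r) ↪ α => ((Function.Embedding.some.trans f), f none)) ?_ _ _ ?_ ?_
      · intro f f' hff
        have h2 := congrArg Prod.fst hff
        have h3 := congrArg Prod.snd hff
        ext i
        cases i with
        | none => exact h3
        | some i => exact DFunLike.congr_fun h2 i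
      · rintro ⟨h, x⟩ hp
        show Ext ε h x = 0
        rw [Ext, dif_pos]
        by_contra hx
        exact hp ⟨h.optionElim x hx, Prod.ext (by ext i; rfl) rfl⟩
      · exact fun f => (ext_restrict f).symm
    rw [h1, Fintype.sum_prod_type]
  rw [htot] at hsum
  have hc : ∀ h', A h' = A h := fun h' => by
    obtain ⟨g, hg⟩ := ht.exists_smul_eq h h'
    rw [← hg, hA]
  rw [Finset.sum_congr rfl fun h' _ => hc h', Finset.sum_const, Finset.card_univ] at hsum
  haveI : Nonempty (Fin r ↪ α) := ⟨h⟩
  have hne : Fintype.card (Fin r ↪ α) ≠ 0 := Fintype.card_ne_zero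
  exact (smul_eq_zero.1 hsum.symm).resolve_left hne

theorem sum_ext_sq (h : Fin r ↪ α) :
    ∑ x, Ext ε h x * Ext ε h x = ((Fintype.card α - r : ℕ) : ℤ) := by
  classical
  have h1 : ∀ x, Ext ε h x * Ext ε h x = if x ∈ (Finset.univ.map h)ᶜ then 1 else 0 := by
    intro x
    unfold Ext
    by_cases hx : x ∈ Set.range h
    · obtain ⟨i, rfl⟩ := hx
      simp
    · rw [dif_neg hx, hε.sq, if_pos]
      simpa [Finset.mem_compl] using fun i hi => hx ⟨i, hi⟩
  rw [Finset.sum_congr rfl fun x _ => h1 x, Finset.sum_boole, Finset.filter_univ_mem,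
    Finset.card_compl, Finset.card_map, Finset.card_univ, Fintype.card_fin]

/-- The mixed sum. -/
theorem sum_pair (hr : 1 ≤ r) (ht : MulAction.IsPretransitive G (Fin r ↪ α)) :
    ∑ e : Option (Option (Fin r)) ↪ α, w ε none e * w ε (some none) e =
      ((Fintype.card α).descFactorial r : ℤ) * ((Fintype.card α - r : ℕ) : ℤ) := by
  classical
  set m : ℤ := ((Fintype.card α - r : ℕ) : ℤ)
  have h1 : ∑ e : Option (Option (Fin r)) ↪ α, w ε none e * w ε (some none) e =
      ∑ p : (Fin r ↪ α) × α × α,
        (if p.2.1 = p.2.2 then 0 else -(Ext ε p.1 p.2.1 * Ext ε p.1 p.2.2)) := by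
    refine Fintype.sum_of_injective
      (fun e : Option (Option (Fin r)) ↪ α =>
        ((Function.Embedding.some.trans (Function.Embedding.some.trans e)), e (some none), e none))
      ?_ _ _ ?_ ?_
    · intro e e' hee
      simp only [Prod.mk.injEq] at hee
      ext i
      rcases i with _ | _ | i
      · exact hee.2.2
      · exact hee.2.1
      · exact DFunLike.congr_fun hee.1 i
    · rintro ⟨h, x, y⟩ hp
      show (if x = y then 0 else -(Ext ε h x * Ext ε h y)) = 0
      split_ifs with hxy
      · rfl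
      rw [neg_eq_zero, mul_eq_zero]
      by_contra hne
      simp only [not_or] at hne
      have hx : x ∉ Set.range h := fun hx => hne.1 (by rw [Ext, dif_pos hx])
      have hy : y ∉ Set.range h := fun hy => hne.2 (by rw [Ext, dif_pos hy])
      refine hp ⟨(h.optionElim x hx).optionElim y ?_, ?_⟩
      · rintro ⟨i, hi⟩
        cases i with
        | none => exact hxy hi
        | some i => exact hy ⟨i, hi⟩
      · refine Prod.ext (by ext i; rfl) (Prod.ext rfl rfl)
    · intro e
      have hne : e (some none) ≠ e none := fun h => Option.some_ne_none _ (e.injective h)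
      rw [if_neg hne]
      have hr1 : Ext ε (Function.Embedding.some.trans (Function.Embedding.some.trans e)) (e (some none)) =
          P₀ ε e := ext_restrict (Function.Embedding.some.trans e)
      have hr2 : Ext ε (Function.Embedding.some.trans (Function.Embedding.some.trans e)) (e none) =
          P₀ ε (re e (Equiv.swap none (some none))) := by
        rw [P₀, ← ext_restrict (ε := ε) (Function.Embedding.some.trans (re e (Equiv.swap none (some none))))]
        congr 1
      rw [hr1, hr2, w, w, Equiv.swap_self, Equiv.Perm.sign_refl,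
        Equiv.Perm.sign_swap (Option.some_ne_none _).symm]
      simp [re]
  rw [h1, Fintype.sum_prod_type]
  have h2 : ∀ h : Fin r ↪ α,
      ∑ q : α × α, (if q.1 = q.2 then 0 else -(Ext ε h q.1 * Ext ε h q.2)) = m := by
    intro h
    rw [Fintype.sum_prod_type]
    have h3 : ∀ x y : α, (if x = y then 0 else -(Ext ε h x * Ext ε h y)) =
        (if x = y then Ext ε h x * Ext ε h x else 0) - Ext ε h x * Ext ε h y := by
      intro x y
      split_ifs with hxy
      · subst hxy; ring
      · ring
    simp only [h3, Finset.sum_sub_distrib, Finset.sum_ite_eq, Finset.mem_univ, if_true,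
      ← Finset.mul_sum, sum_ext hε hr ht, mul_zero, Finset.sum_const_zero, sub_zero]
    exact sum_ext_sq hε h
  rw [Finset.sum_congr rfl fun h _ => h2 h, Finset.sum_const, Finset.card_univ,
    Fintype.card_embedding_eq, Fintype.card_fin, nsmul_eq_mul]

/-- The fundamental identity. -/
theorem ssum_identity (hr : 1 ≤ r) (ht : MulAction.IsPretransitive G (Fin r ↪ α))
    (hh : Homog G (Option (Option (Fin r)))) (hn : r + 2 ≤ Fintype.card α)
    (e₀ : Option (Option (Fin r)) ↪ α) :
    ssum ε e₀ * ssum ε e₀ * ((Fintype.card α : ℤ) - (r + 1)) = (r + 2) * Fintype.card α := by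
  classical
  set n := Fintype.card α
  have hmix : ∀ a b : Option (Option (Fin r)), a ≠ b →
      ∑ e, w ε a e * w ε b e = (n.descFactorial r : ℤ) * ((n - r : ℕ) : ℤ) := by
    intro a b hab
    set σ₁ := Equiv.swap none a
    set b' := σ₁ b with hb'
    have hb0 : b' ≠ none := by
      intro h
      apply hab
      have h2 : σ₁ b = σ₁ a := by rw [← hb', h]; exact (Equiv.swap_apply_right none a).symm
      exact (σ₁.injective h2).symm
    set ρ := σ₁ * Equiv.swap (some none) b'
    have hρ0 : ρ none = a := by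
      show σ₁ (Equiv.swap (some none) b' none) = a
      rw [Equiv.swap_apply_of_ne_of_ne (Option.some_ne_none _).symm hb0.symm]
      exact Equiv.swap_apply_left none a
    have hρ1 : ρ (some none) = b := by
      show σ₁ (Equiv.swap (some none) b' (some none)) = b
      rw [Equiv.swap_apply_left, hb']
      exact Equiv.swap_apply_self none a b
    let Φ : (Option (Option (Fin r)) ↪ α) ≃ (Option (Option (Fin r)) ↪ α) :=
      { toFun := fun e => re e ρ
        invFun := fun e => re e ρ⁻¹
        left_inv := fun e => by simp [re_re, re_one]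
        right_inv := fun e => by simp [re_re, re_one] }
    rw [← sum_pair hε hr ht, ← Equiv.sum_comp Φ (fun e => w ε none e * w ε (some none) e)]
    refine Finset.sum_congr rfl fun e _ => ?_
    show _ = w ε none (re e ρ) * w ε (some none) (re e ρ)
    rw [w_re hε, w_re hε, hρ0, hρ1, mul_mul_mul_comm, sign_mul_self, one_mul]
  set Q : ℤ := (n.descFactorial r : ℤ) * ((n - r : ℕ) : ℤ) with hQ
  set N : ℤ := (Fintype.card (Option (Option (Fin r)) ↪ α) : ℤ) with hN
  have h1 : ∑ e, ssum ε e * ssum ε e = N * (ssum ε e₀ * ssum ε e₀) := by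
    rw [Finset.sum_congr rfl fun e _ => ssum_sq_const hε hh e e₀, Finset.sum_const, Finset.card_univ,
      nsmul_eq_mul]
  have h2 : ∑ e, ssum ε e * ssum ε e = (r + 2) * N + (r + 2) * (r + 1) * Q := by
    simp only [ssum, Finset.sum_mul_sum]
    rw [Finset.sum_comm]
    simp only [Finset.sum_comm (s := (Finset.univ : Finset (Option (Option (Fin r)) ↪ α)))]
    have h3 : ∀ a b : Option (Option (Fin r)), ∑ e, w ε a e * w ε b e = Q + if a = b then N - Q else 0 := by
      intro a b
      by_cases hab : a = b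
      · subst hab
        rw [Finset.sum_congr rfl fun e _ => w_sq hε a e, if_pos rfl, Finset.sum_const, Finset.card_univ]
        simp [hN]
      · rw [hmix a b hab, if_neg hab, add_zero]
    simp only [h3, Finset.sum_add_distrib, Finset.sum_ite_eq, Finset.mem_univ, if_true,
      Finset.sum_const, Finset.card_univ, Fintype.card_option, Fintype.card_fin, nsmul_eq_mul]
    push_cast
    ring
  have hNQ : N = Q * ((n : ℤ) - (r + 1)) := by
    rw [hN, hQ, Fintype.card_embedding_eq, Fintype.card_option, Fintype.card_option, Fintype.card_fin,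
      Nat.descFactorial_succ, Nat.descFactorial_succ]
    show ((((n - (r + 1)) * ((n - r) * n.descFactorial r) : ℕ)) : ℤ) = _
    rw [Nat.cast_mul, Nat.cast_mul, Nat.cast_sub (show r + 1 ≤ n by omega)]
    push_cast
    ring
  have hQ0 : Q ≠ 0 := by
    have a1 : n.descFactorial r ≠ 0 := by rw [Ne, Nat.descFactorial_eq_zero_iff_lt]; omega
    have a2 : n - r ≠ 0 := by omega
    rw [hQ]
    exact mul_ne_zero (by exact_mod_cast a1) (by exact_mod_cast a2)
  rw [h2, hNQ] at h1
  apply mul_left_cancel₀ hQ0
  linear_combination -h1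

end Count


/-- The arithmetical conditions from the counting. -/
theorem orientation_bound {r : ℕ} (hr : 1 ≤ r) (ht : MulAction.IsPretransitive G (Fin r ↪ α))
    (hh₁ : Homog G (Option (Fin r))) (hh : Homog G (Option (Option (Fin r))))
    (hn : r + 2 ≤ Fintype.card α) (f₀ : Option (Fin r) ↪ α) (hfree : Free G f₀)
    (hX : imgGroup G f₀ = alternatingGroup (Option (Fin r))) :
    ∃ j ≤ r + 2, ((r + 2 : ℤ) - 2 * j) ^ 2 * ((Fintype.card α : ℤ) - (r + 1)) = (r + 2) * Fintype.card α ∧
      (r + 2).choose j ≤ Fintype.card α - (r + 1) := by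
  classical
  set n := Fintype.card α with hndef
  obtain ⟨ε, hε⟩ := exists_orient hh₁ hX
  obtain ⟨e₀⟩ : Nonempty (Option (Option (Fin r)) ↪ α) := Function.Embedding.nonempty_of_card_le (by
    simp only [Fintype.card_option, Fintype.card_fin]; omega)
  have hid := ssum_identity hε hr ht hh hn e₀
  set P : Option (Option (Fin r)) → Prop := fun a => w ε a e₀ = 1
  have hw : ∀ a, w ε a e₀ = if P a then 1 else -1 := by
    intro a
    rcases mul_self_eq_one_iff.1 (w_sq hε a e₀) with h | h
    · rw [if_pos h, h]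
    · rw [if_neg (show ¬ P a by show ¬ w ε a e₀ = 1; rw [h]; decide), h]
  set j := Fintype.card {a // P a} with hj
  have hk : Fintype.card (Option (Option (Fin r))) = r + 2 := by simp
  have hjk : j ≤ r + 2 := hk ▸ Fintype.card_subtype_le _
  have hnot : Fintype.card {a // ¬ P a} = r + 2 - j := by rw [Fintype.card_subtype_compl, hk]
  have hs : ssum ε e₀ = 2 * (j : ℤ) - (r + 2) := by
    rw [ssum, Finset.sum_congr rfl fun a _ => hw a, Finset.sum_ite, Finset.sum_const, Finset.sum_const,
      ← Fintype.card_subtype, ← Fintype.card_subtype, hnot, ← hj, nsmul_eq_mul, nsmul_eq_mul,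
      Nat.cast_sub hjk]
    push_cast
    ring
  refine ⟨j, hjk, by rw [← hid, hs]; ring, ?_⟩
  have hs0 : ssum ε e₀ ≠ 0 := by
    intro h0
    rw [h0, zero_mul, zero_mul] at hid
    have h2 : (0 : ℤ) < (r + 2) * Fintype.card α := mul_pos (by omega) (by exact_mod_cast (show 0 < Fintype.card α by omega))
    omega
  set Y := imgGroup G e₀
  have hY : ∀ σ ∈ Y, Equiv.Perm.sign σ = 1 ∧ ∀ a, P (σ a) ↔ P a := by
    rintro σ ⟨g, hg⟩
    have hwσ : ∀ a, w ε a e₀ = (Equiv.Perm.sign σ : ℤ) * w ε (σ a) e₀ := fun a => by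
      rw [← w_re hε, ← hg, w_smul hε]
    have h1 : ssum ε e₀ = (Equiv.Perm.sign σ : ℤ) * ssum ε e₀ := by
      rw [← ssum_re hε, ← hg, ssum, ssum]
      exact Finset.sum_congr rfl fun a _ => (w_smul hε a e₀ g).symm
    have h2 : Equiv.Perm.sign σ = 1 := Units.ext (mul_right_cancel₀ hs0 (by rw [← h1, Units.val_one, one_mul]))
    refine ⟨h2, fun a => ?_⟩
    show w ε (σ a) e₀ = 1 ↔ w ε a e₀ = 1
    rw [hwσ a, h2]
    simp
  -- a transposition inside one of the two classes
  obtain ⟨a, b, hab, hPab⟩ : ∃ a b, a ≠ b ∧ (P a ↔ P b) := by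
    by_contra hcon
    push Not at hcon
    have hinj : Function.Injective fun a => decide (P a) := by
      intro a b hd
      by_contra hne
      have := hcon a b hne
      simp only [decide_eq_decide] at hd
      tauto
    have := Fintype.card_le_of_injective _ hinj
    rw [hk, Fintype.card_bool] at this
    omega
  set τ := Equiv.swap a b
  have hτP : ∀ x, P (τ x) ↔ P x := by
    intro x
    by_cases hxa : x = a
    · subst hxa; rw [Equiv.swap_apply_left]; exact hPab.symm
    by_cases hxb : x = b
    · subst hxb; rw [Equiv.swap_apply_right]; exact hPab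
    rw [Equiv.swap_apply_of_ne_of_ne hxa hxb]
  let Φ : Y × Bool → Equiv.Perm {a // P a} × Equiv.Perm {a // ¬ P a} := fun x =>
    let σ := if x.2 then (x.1 : Equiv.Perm (Option (Option (Fin r)))) * τ else x.1
    have hσ : ∀ c, P (σ c) ↔ P c := by
      intro c
      simp only [σ]
      split_ifs
      · exact ((hY _ x.1.2).2 (τ c)).trans (hτP c)
      · exact (hY _ x.1.2).2 c
    (σ.subtypePerm hσ, σ.subtypePerm fun c => not_congr (hσ c))
  have hΦ : Function.Injective Φ := by
    rintro ⟨⟨σ, hσ⟩, u⟩ ⟨⟨σ', hσ'⟩, u'⟩ he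
    have h1 : (if u then σ * τ else σ) = (if u' then σ' * τ else σ') := by
      refine Equiv.ext fun c => ?_
      by_cases hc : P c
      · exact congrArg Subtype.val (Equiv.congr_fun (congrArg Prod.fst he) ⟨c, hc⟩)
      · exact congrArg Subtype.val (Equiv.congr_fun (congrArg Prod.snd he) ⟨c, hc⟩)
    have h2 := congrArg Equiv.Perm.sign h1
    cases u <;> cases u' <;>
      simp [(hY _ hσ).1, (hY _ hσ').1, Equiv.Perm.sign_swap hab, τ] at h1 h2 ⊢ <;> exact h1
  have hle := Nat.card_le_card_of_injective Φ hΦ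
  rw [Nat.card_prod, Nat.card_prod, Nat.card_perm, Nat.card_perm, Nat.card_eq_fintype_card (α := Bool),
    Fintype.card_bool, Nat.card_eq_fintype_card, Nat.card_eq_fintype_card (α := {a // P a}),
    Nat.card_eq_fintype_card (α := {a // ¬ P a}), hnot, ← hj] at hle
  -- the two counts of the order
  have hfree' : Free G e₀ := fun g hg => free_all hh₁ hfree (Function.Embedding.some.trans e₀) g (by
    ext i
    exact DFunLike.congr_fun hg (some i))
  have c1 := card_eq_choose hh₁ hfree
  have c2 := card_eq_choose hh hfree'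
  rw [hX] at c1
  haveI : Nontrivial (Option (Fin r)) := ⟨⟨none, some ⟨0, hr⟩, Option.some_ne_none _ |>.symm⟩⟩
  have hA : 2 * Nat.card (alternatingGroup (Option (Fin r))) = (r + 1).factorial := by
    rw [Nat.card_eq_fintype_card, two_mul_card_alternatingGroup, Fintype.card_perm, Fintype.card_option,
      Fintype.card_fin]
  simp only [Fintype.card_option, Fintype.card_fin, ← hndef] at c1 c2
  rw [Nat.card_eq_fintype_card (α := Y)] at c2
  have hch := Nat.choose_succ_right_eq n (r + 1)
  have hkey : 2 * Fintype.card Y * (n - (r + 1)) = (r + 2).factorial := by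
    have h1 : n.choose (r + 1) ≠ 0 := (Nat.choose_pos (by omega)).ne'
    apply Nat.eq_of_mul_eq_mul_left (Nat.pos_of_ne_zero h1)
    calc n.choose (r + 1) * (2 * Fintype.card Y * (n - (r + 1)))
        = n.choose (r + 1) * (n - (r + 1)) * (2 * Fintype.card Y) := by ring
      _ = (r + 2) * (2 * (n.choose (r + 2) * Fintype.card Y)) := by rw [← hch]; ring
      _ = (r + 2) * (2 * (n.choose (r + 1) * Nat.card (alternatingGroup (Option (Fin r))))) := by
          rw [← c2, c1]
      _ = n.choose (r + 1) * (r + 2).factorial := by rw [Nat.factorial_succ (r + 1), ← hA]; ring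
  have hfac := Nat.choose_mul_factorial_mul_factorial hjk
  have h2 : (r + 2).choose j * (j.factorial * (r + 2 - j).factorial) ≤
      (n - (r + 1)) * (j.factorial * (r + 2 - j).factorial) := by
    calc (r + 2).choose j * (j.factorial * (r + 2 - j).factorial)
        = (n - (r + 1)) * (2 * Fintype.card Y) := by rw [← mul_assoc, hfac, ← hkey]; ring
      _ ≤ _ := Nat.mul_le_mul_left _ (by rw [mul_comm]; exact hle)
  exact Nat.le_of_mul_le_mul_right h2 (by positivity)

end Cfsg.Agent.Perm.LW
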