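import Cfsg.Agent.Lib.Perm.LivingstoneWagner.Main
import Cfsg.Agent.S0736
import Cfsg.Agent.S4221

/-!
The Livingstone–Wagner theorems.
-/

set_option autoImplicit false
set_option linter.unusedSectionVars false

namespace Cfsg.Agent.Perm.LW

open Equiv
open scoped Pointwise

variable {α : Type*} [Fintype α] [DecidableEq α] {G : Subgroup (Equiv.Perm α)}

theorem homog_pred {k : ℕ} (hk : 2 ≤ k) (hkn : 2 * k ≤ Fintype.card α)
    (hh : MulAction.IsPretransitive G (Set.powersetCard α k)) :
    MulAction.IsPretransitive G (Set.powersetCard α (k - 1)) :=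
  Cfsg.Agent.S0736.result G hk hh fun q _ hqk => by
    have := Nat.le_of_dvd (by omega) hqk
    omega

theorem transitive_pred : ∀ k : ℕ, 2 ≤ k → 2 * k ≤ Fintype.card α →
    MulAction.IsPretransitive G (Set.powersetCard α k) → MulAction.IsMultiplyPretransitive G α (k - 1) := by
  intro k
  induction k using Nat.strong_induction_on with
  | _ k ih =>
  intro hk hkn hh
  have hh1 := homog_pred hk hkn hh
  rcases eq_or_lt_of_le hk with rfl | hk3
  · refine MulAction.is_one_pretransitive_iff.2 ⟨fun a b => ?_⟩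
    obtain ⟨g, hg⟩ := hh1.exists_smul_eq ⟨{a}, Finset.card_singleton a⟩ ⟨{b}, Finset.card_singleton b⟩
    refine ⟨g, ?_⟩
    have h1 := congrArg Subtype.val hg
    have h2 : g • a ∈ g • ({a} : Finset α) := Finset.smul_mem_smul_finset (Finset.mem_singleton_self a)
    change g • ({a} : Finset α) = {b} at h1
    rw [h1] at h2
    exact Finset.mem_singleton.1 h2
  obtain ⟨r, rfl⟩ : ∃ r, k = r + 2 := ⟨k - 2, by omega⟩
  have ht : MulAction.IsMultiplyPretransitive G α r := ih (r + 1) (by omega) (by omega) (by omega) hh1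
  by_contra hnt
  rcases livingstone_wagner (by omega) (by omega) ht hnt hh1 hh with ⟨h, -⟩ | ⟨h, h', -⟩ | ⟨h, h', -⟩ |
    ⟨h, h', -⟩ <;> omega

theorem transitive_of_homog {k : ℕ} (hk : 5 ≤ k) (hkn : 2 * k ≤ Fintype.card α)
    (hh : MulAction.IsPretransitive G (Set.powersetCard α k)) : MulAction.IsMultiplyPretransitive G α k := by
  classical
  by_contra hnt
  obtain ⟨q, rfl⟩ : ∃ q, k = q + 1 := ⟨k - 1, by omega⟩
  have ht : MulAction.IsMultiplyPretransitive G α q := transitive_pred (q + 1) (by omega) hkn hh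
  set n := Fintype.card α with hn
  -- every involution fixing `q` points would induce a transposition on a `k`-set
  have hcJ : Fintype.card (Option (Fin q)) = q + 1 := by simp
  have hh₁ : Homog G (Option (Fin q)) := homog_of_pretransitive hcJ hh
  obtain ⟨Δ, hΔc, hΔ⟩ := Cfsg.Agent.S0747.result G (k := q) (by omega) (by omega) ht
  obtain ⟨e⟩ : Nonempty (Option (Fin q) ≃ Δ) := ⟨Fintype.equivOfCardEq (by simp [hΔc])⟩
  let f₀ : Option (Fin q) ↪ α := e.toEmbedding.trans (Function.Embedding.subtype _)
  have hle : alternatingGroup (Option (Fin q)) ≤ imgGroup G f₀ := by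
    intro σ hσ
    obtain ⟨g, hg, hge⟩ := hΔ (e.permCongr σ) (by
      rw [Equiv.Perm.mem_alternatingGroup, Equiv.Perm.sign_permCongr]; exact hσ)
    refine mem_imgGroup.2 ⟨⟨g, hg⟩, ?_⟩
    ext i
    show g (e i : α) = (e (σ i) : α)
    rw [hge (e i)]
    simp [Equiv.permCongr_apply]
  have hne : ∀ f : Option (Fin q) ↪ α, imgGroup G f ≠ ⊤ := fun f h =>
    hnt (trans_of_equiv (Fintype.equivFinOfCardEq hcJ) (imgGroup_top_trans hh₁ h))
  have halt := eq_alternating hle (hne f₀)
  have hodd : ∀ (Γ : Finset α), Γ.card = q → ∀ g : G, (∀ x ∈ Γ, g • x = x) → Odd (orderOf g) := by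
    intro Γ hΓ g hg
    by_contra hev
    rw [Nat.not_odd_iff_even, even_iff_two_dvd] at hev
    set t := g ^ (orderOf g / 2)
    have hg0 : orderOf g ≠ 0 := (orderOf_pos g).ne'
    have hto : orderOf t = 2 := orderOf_pow_orderOf_div hg0 hev
    have htΓ : ∀ x ∈ Γ, t • x = x := by
      intro x hx
      have : g ∈ MulAction.stabilizer G x := hg x hx
      exact Subgroup.pow_mem _ this _
    obtain ⟨a, ha⟩ : ∃ a, t • a ≠ a := by
      by_contra hcon
      push Not at hcon
      have : t = 1 := Subtype.ext (Equiv.ext hcon)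
      rw [this, orderOf_one] at hto
      omega
    set b := t • a with hb
    have hba : t • b = a := by
      rw [hb, ← mul_smul, ← pow_two, ← hto, pow_orderOf_eq_one, one_smul]
    have haΓ : a ∉ Γ := fun h => ha (htΓ a h)
    have hbΓ : b ∉ Γ := fun h => ha (by
      have h1 := htΓ b h
      rw [hba] at h1
      exact h1.symm)
    obtain ⟨Γ', hΓ'Γ, hΓ'c⟩ := Finset.exists_subset_card_eq (s := Γ) (n := q - 1) (by omega)
    obtain ⟨e'⟩ : Nonempty (Fin (q - 1) ≃ Γ') := ⟨Fintype.equivOfCardEq (by simp [hΓ'c])⟩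
    obtain ⟨r, rfl⟩ : ∃ r, q = r + 1 := ⟨q - 1, by omega⟩
    let ι : Option (Option (Fin r)) ≃ Option (Fin (r + 1)) := Equiv.optionCongr (finSuccEquiv r).symm
    let f' : Option (Option (Fin r)) ↪ α :=
      ((((e'.toEmbedding.trans (Function.Embedding.subtype _)) : Fin r ↪ α).optionElim b (by
        rintro ⟨i, hi⟩
        exact hbΓ (hΓ'Γ (hi ▸ (e' i).2))))).optionElim a (by
        rintro ⟨i, hi⟩
        cases i with
        | none => exact ha hi
        | some i =>
          have h3 : (e' i : α) = a := hi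
          exact haΓ (hΓ'Γ (h3 ▸ (e' i).2)))
    let f : Option (Fin (r + 1)) ↪ α := ι.symm.toEmbedding.trans f'
    -- the transposition
    let π : Equiv.Perm (Option (Fin (r + 1))) := ι.permCongr (Equiv.swap none (some none))
    have hmem : π ∈ imgGroup G f := by
      refine mem_imgGroup.2 ⟨t, ?_⟩
      ext i
      obtain ⟨j, rfl⟩ := ι.surjective i
      show t • f' (ι.symm (ι j)) = f' (ι.symm (π (ι j)))
      simp only [π, Equiv.permCongr_apply, Equiv.symm_apply_apply]
      rcases j with _ | _ | j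
      · rw [Equiv.swap_apply_left]; rfl
      · rw [Equiv.swap_apply_right]; exact hba
      · rw [Equiv.swap_apply_of_ne_of_ne (Option.some_ne_none _) (by simp)]
        exact htΓ _ (hΓ'Γ (e' j).2)
    have hsgn : Equiv.Perm.sign π = -1 := by
      rw [Equiv.Perm.sign_permCongr, Equiv.Perm.sign_swap (Option.some_ne_none _).symm]
    obtain ⟨k, σ, hk⟩ := hh₁ f f₀
    have hmem₀ : σ * π * σ⁻¹ ∈ imgGroup G f₀ := by
      obtain ⟨u, hu⟩ := mem_imgGroup.1 hmem
      refine mem_imgGroup.2 ⟨k * u * k⁻¹, ?_⟩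
      have hkf : k⁻¹ • f₀ = re f σ⁻¹ := by
        rw [ginv_smul_eq_iff, smul_re, hk, re_re, mul_inv_cancel, re_one]
      rw [gmul_smul, gmul_smul, hkf, smul_re, hu, re_re, smul_re, hk, re_re, mul_assoc]
    rw [halt, Equiv.Perm.mem_alternatingGroup, map_mul, map_mul, map_inv, hsgn, mul_inv_cancel_comm] at hmem₀
    exact absurd hmem₀ (by decide)
  -- a 4-fold transitive group with four-point stabilisers of odd order
  obtain ⟨Φ, -, hΦ⟩ := Finset.exists_subset_card_eq (s := (Finset.univ : Finset α)) (n := q - 4) (by simp; omega)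
  set L := fixingSubgroup G (Φ : Set α) with hL
  set β := SubMulAction.ofFixingSubgroup G (Φ : Set α)
  haveI : MulAction.IsMultiplyPretransitive G α q := ht
  have hL4 : MulAction.IsMultiplyPretransitive L β 4 :=
    SubMulAction.ofFixingSubgroup.isMultiplyPretransitive G (Φ : Set α) (n := q) (by
      rw [Set.ncard_coe_finset, hΦ]; omega)
  let ρ : L →* Equiv.Perm β := MulAction.toPermHom L β
  have hρ : Function.Injective ρ := by
    rw [injective_iff_map_eq_one]
    intro g hg
    refine Subtype.ext (Subtype.ext (Equiv.ext fun x => ?_))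
    by_cases hx : x ∈ Φ
    · exact (mem_fixingSubgroup_iff G).1 g.2 x hx
    · exact congrArg Subtype.val (Equiv.congr_fun hg ⟨x, hx⟩)
  haveI : Fintype β := Fintype.ofFinite β
  have hβ : Fintype.card β = n - (q - 4) := by
    rw [← Nat.card_eq_fintype_card, show Nat.card β = Nat.card {x : α // x ∈ ((Φ : Set α)ᶜ)} from rfl,
      ← Set.coe_eq_subtype, Nat.card_coe_set_eq, Set.ncard_compl, Set.ncard_coe_finset, hΦ,
      Nat.card_eq_fintype_card]
  have h4 : MulAction.IsMultiplyPretransitive ρ.range β 4 := by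
    refine ⟨fun x y => ?_⟩
    obtain ⟨g, hg⟩ := hL4.exists_smul_eq x y
    refine ⟨⟨ρ g, ⟨g, rfl⟩⟩, ?_⟩
    ext i
    exact congrArg Subtype.val (DFunLike.congr_fun hg i)
  obtain ⟨x⟩ : Nonempty (Fin 4 ↪ β) := Function.Embedding.nonempty_of_card_le (by rw [hβ, Fintype.card_fin]; omega)
  have hx : Odd (Nat.card (MulAction.stabilizer ρ.range x)) := by
    rw [← Nat.not_even_iff_odd, even_iff_two_dvd]
    intro hev
    obtain ⟨⟨⟨y, g, rfl⟩, hy⟩, hyo⟩ := exists_prime_orderOf_dvd_card' 2 hev
    have hgo : orderOf (g : G) = 2 := by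
      rw [Subgroup.orderOf_coe, ← orderOf_injective ρ hρ, ← hyo, ← Subgroup.orderOf_coe, ← Subgroup.orderOf_coe]
    have hodd' := hodd (Φ ∪ Finset.univ.map (x.trans ⟨fun z => (z : α), Subtype.val_injective⟩)) (by
        rw [Finset.card_union_of_disjoint, hΦ, Finset.card_map, Finset.card_univ, Fintype.card_fin]
        · omega
        · rw [Finset.disjoint_left]
          intro z hz hz'
          obtain ⟨i, -, rfl⟩ := Finset.mem_map.1 hz'
          exact (x i).2 hz) (g : G) (by
        intro z hz
        rcases Finset.mem_union.1 hz with hz | hz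
        · exact (mem_fixingSubgroup_iff G).1 g.2 z hz
        · obtain ⟨i, -, rfl⟩ := Finset.mem_map.1 hz
          exact congrArg Subtype.val (DFunLike.congr_fun hy i))
    rw [hgo] at hodd'
    exact absurd hodd' (by decide)
  rcases Cfsg.Agent.S4221.result ρ.range h4 x hx with ⟨h | h, -⟩ | ⟨h | h, -⟩ | ⟨h11, hord⟩
  · omega
  · omega
  · omega
  · omega
  have hLc : Nat.card L = 7920 := by
    rw [← hord]
    exact Nat.card_congr (MonoidHom.ofInjective hρ).toEquiv
  have hdvd := choose_dvd (k := q + 1) (by omega) hh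
  obtain rfl | rfl : q = 4 ∨ q = 5 := by omega
  · have hn11 : Fintype.card α = 11 := by omega
    have hΦ0 : Φ = ∅ := Finset.card_eq_zero.1 (by omega)
    have hLt : L = ⊤ := by
      refine eq_top_iff.2 fun g _ => (mem_fixingSubgroup_iff G).2 fun z hz => ?_
      rw [hΦ0] at hz
      simp at hz
    have hG : Nat.card G = 7920 := by rw [← hLc, hLt, Subgroup.card_top]
    rw [hn11, hG] at hdvd
    revert hdvd
    decide +kernel
  · have hn12 : Fintype.card α = 12 := by omega
    obtain ⟨a, hΦa⟩ := Finset.card_eq_one.1 (show Φ.card = 1 by omega)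
    haveI h1 : MulAction.IsMultiplyPretransitive G α 1 :=
      MulAction.isMultiplyPretransitive_of_le' (n := 5) (by norm_num) (by simp; omega)
    haveI : MulAction.IsPretransitive G α := MulAction.is_one_pretransitive_iff.1 h1
    have hLs : L = MulAction.stabilizer G a := by
      rw [hL, hΦa, Finset.coe_singleton]
      ext g
      simp [mem_fixingSubgroup_iff]
    have hG : Nat.card G = 95040 := by
      have h2 := Subgroup.card_mul_index (MulAction.stabilizer G a)
      rw [MulAction.index_stabilizer_of_transitive, ← hLs, hLc, Nat.card_eq_fintype_card (α := α), hn12] at h2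
      exact h2.symm
    rw [hn12, hG] at hdvd
    revert hdvd
    decide +kernel

end Cfsg.Agent.Perm.LW
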