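import Mathlib

/-!
Groups transitive on `q`-subsets, seen on injective `q`-tuples.
-/

set_option autoImplicit false
set_option linter.unusedSectionVars false

namespace Cfsg.Agent.Perm.LW

open Equiv
open scoped Pointwise

variable {α : Type*} [Fintype α] [DecidableEq α] {J : Type*} [Fintype J] [DecidableEq J]

/-- A tuple with its entries permuted. -/
def re (f : J ↪ α) (σ : Equiv.Perm J) : J ↪ α := σ.toEmbedding.trans f

theorem re_apply (f : J ↪ α) (σ : Equiv.Perm J) (i : J) : re f σ i = f (σ i) := rfl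

theorem re_re (f : J ↪ α) (σ τ : Equiv.Perm J) : re (re f σ) τ = re f (σ * τ) := rfl

theorem re_one (f : J ↪ α) : re f (1 : Equiv.Perm J) = f := rfl

variable {G : Subgroup (Equiv.Perm α)}

theorem smul_re (g : G) (f : J ↪ α) (σ : Equiv.Perm J) : g • re f σ = re (g • f) σ := rfl

theorem re_inj {f : J ↪ α} {σ τ : Equiv.Perm J} (h : re f σ = re f τ) : σ = τ :=
  Equiv.ext fun i => f.injective (DFunLike.congr_fun h i)

theorem gmul_smul (g h : G) (f : J ↪ α) : (g * h) • f = g • h • f := mul_smul g h f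

theorem gone_smul (f : J ↪ α) : (1 : G) • f = f := one_smul _ f

theorem ginv_smul_smul (g : G) (f : J ↪ α) : g⁻¹ • g • f = f := inv_smul_smul g f

theorem ginv_smul_eq_iff (g : G) (f f' : J ↪ α) : g⁻¹ • f = f' ↔ f = g • f' := inv_smul_eq_iff

variable (G) in
/-- `G` is transitive on the unordered tuples. -/
def Homog (J : Type*) [Fintype J] [DecidableEq J] : Prop :=
  ∀ f f' : J ↪ α, ∃ g : G, ∃ σ : Equiv.Perm J, g • f = re f' σ

theorem homog_of_pretransitive {q : ℕ} (hJ : Fintype.card J = q)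
    (h : MulAction.IsPretransitive G (Set.powersetCard α q)) : Homog G J := by
  intro f f'
  let s : ∀ f : J ↪ α, Set.powersetCard α q := fun f => ⟨Finset.univ.map f, by simp [hJ]⟩
  obtain ⟨g, hg⟩ := h.exists_smul_eq (s f) (s f')
  have hm : ∀ i, g • f i ∈ Finset.univ.map f' := by
    intro i
    have h1 := congrArg Subtype.val hg
    change g • Finset.univ.map f = Finset.univ.map f' at h1
    rw [← h1]
    exact Finset.smul_mem_smul_finset (Finset.mem_map_of_mem f (Finset.mem_univ i))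
  choose τ hτ hτe using fun i => Finset.mem_map.1 (hm i)
  have hinj : Function.Injective τ := fun a b hab => f.injective (smul_left_cancel g (by
    rw [← hτe a, ← hτe b, hab]))
  refine ⟨g, Equiv.ofBijective τ (Finite.injective_iff_bijective.1 hinj), ?_⟩
  ext i
  exact (hτe i).symm

variable (G) in
/-- The permutations of the entries of a tuple induced by `G`. -/
def imgGroup (f : J ↪ α) : Subgroup (Equiv.Perm J) where
  carrier := {σ | ∃ g : G, g • f = re f σ}
  one_mem' := ⟨1, by rw [gone_smul, re_one]⟩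
  mul_mem' := by
    rintro σ τ ⟨g, hg⟩ ⟨h, hh⟩
    exact ⟨g * h, by rw [gmul_smul, hh, smul_re, hg, re_re]⟩
  inv_mem' := by
    rintro σ ⟨g, hg⟩
    refine ⟨g⁻¹, ?_⟩
    rw [ginv_smul_eq_iff, smul_re, hg, re_re, mul_inv_cancel, re_one]

theorem mem_imgGroup {f : J ↪ α} {σ : Equiv.Perm J} :
    σ ∈ imgGroup G f ↔ ∃ g : G, g • f = re f σ := Iff.rfl

variable (G) in
/-- Only the identity fixes all entries. -/
def Free (f : J ↪ α) : Prop := ∀ g : G, g • f = f → g = 1

theorem free_all (hh : Homog G J) {f₀ : J ↪ α} (h : Free G f₀) (f : J ↪ α) : Free G f := by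
  intro g hg
  obtain ⟨k, σ, hk⟩ := hh f f₀
  have h1 : (k * g * k⁻¹) • re f₀ σ = re f₀ σ := by
    rw [← hk, ← gmul_smul, inv_mul_cancel_right, gmul_smul, hg]
  rw [smul_re] at h1
  have h2 := congrArg (fun e => re e σ⁻¹) h1
  simp only [re_re, mul_inv_cancel, re_one] at h2
  have h3 := h _ h2
  rwa [conj_eq_one_iff] at h3

theorem imgGroup_top_trans (hh : Homog G J) {f₀ : J ↪ α} (h : imgGroup G f₀ = ⊤) :
    MulAction.IsPretransitive G (J ↪ α) := by
  refine ⟨fun f f' => ?_⟩
  obtain ⟨g, σ, hg⟩ := hh f f₀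
  obtain ⟨g', σ', hg'⟩ := hh f' f₀
  obtain ⟨k, hk⟩ : ∃ k : G, k • f₀ = re f₀ (σ' * σ⁻¹) := mem_imgGroup.1 (h ▸ Subgroup.mem_top _)
  refine ⟨g'⁻¹ * k * g, ?_⟩
  rw [gmul_smul, gmul_smul, hg, smul_re, hk, re_re, inv_mul_cancel_right, ginv_smul_eq_iff, hg']

theorem card_mul_factorial (hh : Homog G J) {f₀ : J ↪ α} (hfree : Free G f₀) :
    Nat.card G * (Fintype.card J).factorial =
      (Fintype.card α).descFactorial (Fintype.card J) * Nat.card (imgGroup G f₀) := by
  let Ψ : G × Equiv.Perm J → (J ↪ α) := fun x => x.1 • re f₀ x.2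
  have hfib : ∀ f, Nat.card {x // Ψ x = f} = Nat.card (imgGroup G f₀) := by
    intro f
    obtain ⟨g₁, σ₁, hg₁⟩ := hh f f₀
    let φ : {x // Ψ x = f} → imgGroup G f₀ := fun x => ⟨σ₁ * x.1.2⁻¹, g₁ * x.1.1, by
      have h1 : (g₁ * x.1.1) • re f₀ x.1.2 = re f₀ σ₁ := by rw [gmul_smul, ← hg₁]; exact congrArg _ x.2
      rw [smul_re] at h1
      have h2 := congrArg (fun e => re e x.1.2⁻¹) h1
      simpa only [re_re, mul_inv_cancel, re_one] using h2⟩
    refine Nat.card_congr (Equiv.ofBijective φ ⟨?_, ?_⟩)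
    · rintro ⟨⟨g, σ⟩, hx⟩ ⟨⟨g', σ'⟩, hx'⟩ he
      have hσ : σ = σ' := by
        have := congrArg Subtype.val he
        simpa [φ] using this
      subst hσ
      have h1 : g • re f₀ σ = g' • re f₀ σ := hx.trans hx'.symm
      have h2 : (g'⁻¹ * g) • re f₀ σ = re f₀ σ := by rw [gmul_smul, h1, ginv_smul_smul]
      have h3 := free_all hh hfree _ _ h2
      rw [inv_mul_eq_one] at h3
      subst h3
      rfl
    · rintro ⟨x, k, hk⟩
      refine ⟨⟨(g₁⁻¹ * k, x⁻¹ * σ₁), ?_⟩, Subtype.ext ?_⟩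
      · show (g₁⁻¹ * k) • re f₀ (x⁻¹ * σ₁) = f
        rw [gmul_smul, smul_re k, hk, re_re, mul_inv_cancel_left, ginv_smul_eq_iff, hg₁]
      · show σ₁ * (x⁻¹ * σ₁)⁻¹ = x
        rw [mul_inv_rev, inv_inv, mul_inv_cancel_left]
  have h1 := Nat.card_congr (Equiv.sigmaFiberEquiv Ψ)
  rw [Nat.card_sigma, Finset.sum_congr rfl fun f _ => hfib f, Finset.sum_const, Finset.card_univ,
    smul_eq_mul, Fintype.card_embedding_eq, Nat.card_prod, Nat.card_perm, Nat.card_eq_fintype_card (α := J)] at h1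
  exact h1.symm

theorem card_eq_choose (hh : Homog G J) {f₀ : J ↪ α} (hfree : Free G f₀) :
    Nat.card G = (Fintype.card α).choose (Fintype.card J) * Nat.card (imgGroup G f₀) := by
  have h1 := card_mul_factorial hh hfree
  rw [Nat.descFactorial_eq_factorial_mul_choose] at h1
  exact Nat.eq_of_mul_eq_mul_right (Fintype.card J).factorial_pos (by rw [h1]; ring)

end Cfsg.Agent.Perm.LW
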